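/-
Presentations of two simple groups on four involutions, words for such involutions in the presented O'Nan group, and base data, found by a computer search.
-/
import Cfsg.Agent.Lib.Spor.TC.Word

set_option maxRecDepth 100000

namespace CfsgLib.Spor.ON.Sub

open CfsgLib.Spor.TC

/-- Relators on four involutions. -/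
def relsJ : List PowRel := [
  ([0, 1], 3),
  ([0, 2], 6),
  ([0, 3], 2),
  ([1, 2], 3),
  ([1, 3], 6),
  ([2, 3], 5),
  ([0, 1, 2], 5),
  ([0, 1, 0, 1, 3], 2),
  ([0, 2, 0, 2, 3, 2], 2)]

/-- The relators on the first three involutions. -/
def relsJH : List PowRel := [
  ([0, 1], 3),
  ([0, 2], 6),
  ([1, 2], 3),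
  ([0, 1, 2], 5)]

/-- The four involutions in the presented O'Nan group. -/
def wordsJ : List (List ℕ) := [[6, 2, 5, 2, 1, 2, 6, 3, 2, 4, 2, 1, 2, 0, 2, 1, 2, 4, 2, 3, 6, 2, 1, 2, 5, 2, 6, 0, 5, 3, 2, 3, 1, 0, 3, 4, 5, 3, 2, 4, 0, 5, 1, 0, 5, 3, 2, 3, 1, 0, 3, 4, 5, 3, 2, 4, 0, 5, 1, 6, 2, 5, 2, 1, 2, 6, 3, 2, 4, 2, 1, 2, 0, 2, 1, 2, 4, 2, 3, 6, 2, 1, 2, 5, 2, 6, 0, 5, 3, 2, 3, 1, 0, 3, 4, 5, 3, 2, 4, 0, 5, 1, 0, 5, 3, 2, 3, 1, 0, 3, 4, 5, 3, 2, 4, 0, 5, 1, 0, 5, 3, 2, 3, 1, 0, 3, 4, 5, 3, 2, 4, 0, 5, 1, 0, 5, 3, 2, 3, 1, 0, 3, 4, 5, 3, 2, 4, 0, 5, 1, 6, 2, 5, 2, 1, 2, 6, 3, 2, 4, 2, 1, 2, 0, 2, 1, 2, 4, 2, 3,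 6, 2, 1, 2, 5, 2, 6, 0, 5, 3, 2, 3, 1, 0, 3, 4, 5, 3, 2, 4, 0, 5, 1, 0, 5, 3, 2, 3, 1, 0, 3, 4, 5, 3, 2, 4, 0, 5, 1, 6, 2, 5, 2, 1, 2, 6, 3, 2, 4, 2, 1, 2, 0, 2, 1, 2, 4, 2, 3, 6, 2, 1, 2, 5, 2, 6, 0, 5, 3, 2, 3, 1, 0, 3, 4, 5, 3, 2, 4, 0, 5, 1, 0, 5, 3, 2, 3, 1, 0, 3, 4, 5, 3, 2, 4, 0, 5, 1, 6, 2, 5, 2, 1, 2, 6, 3, 2, 4, 2, 1, 2, 0, 2, 1, 2, 4, 2, 3, 6, 2, 1, 2, 5, 2, 6, 0, 5, 3, 2, 3, 1, 0, 3, 4, 5, 3, 2, 4, 0, 5, 1, 0, 5, 3, 2, 3, 1, 0, 3, 4, 5, 3, 2, 4, 0, 5, 1, 0, 5, 3, 2, 3, 1, 0, 3, 4, 5, 3, 2, 4, 0, 5, 1, 0, 5, 3, 2, 3, 1, 0, 3, 4, 5, 3, 2, 4, 0, 5, 1, 6, 2, 5, 2, 1, 2, 6, 3, 2, 4, 2, 1, 2, 0, 2, 1, 2,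 4, 2, 3, 6, 2, 1, 2, 5, 2, 6, 0, 5, 3, 2, 3, 1, 0, 3, 4, 5, 3, 2, 4, 0, 5, 1, 0, 5, 3, 2, 3, 1, 0, 3, 4, 5, 3, 2, 4, 0, 5, 1, 6, 2, 5, 2, 1, 2, 6, 3, 2, 4, 2, 1, 2, 0, 2, 1, 2, 4, 2, 3, 6, 2, 1, 2, 5, 2, 6, 0, 5, 3, 2, 3, 1, 0, 3, 4, 5, 3, 2, 4, 0, 5, 1, 0, 5, 3, 2, 3, 1, 0, 3, 4, 5, 3, 2, 4, 0, 5, 1, 0, 5, 3, 2, 3, 1, 0, 3, 4, 5, 3, 2, 4, 0, 5, 1, 0, 5, 3, 2, 3, 1, 0, 3, 4, 5, 3, 2, 4, 0, 5, 1, 6, 2, 5, 2, 1, 2, 6, 3, 2, 4, 2, 1, 2, 0, 2, 1, 2, 4, 2, 3, 6, 2, 1, 2, 5, 2, 6, 0, 5, 3, 2, 3, 1, 0, 3, 4, 5, 3, 2, 4, 0, 5, 1, 0, 5, 3, 2, 3, 1, 0, 3, 4, 5, 3, 2, 4, 0, 5, 1, 6, 2, 5, 2, 1, 2, 6, 3, 2, 4, 2, 1, 2, 0,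 2, 1, 2, 4, 2, 3, 6, 2, 1, 2, 5, 2, 6, 0, 5, 3, 2, 3, 1, 0, 3, 4, 5, 3, 2, 4, 0, 5, 1, 0, 5, 3, 2, 3, 1, 0, 3, 4, 5, 3, 2, 4, 0, 5, 1, 6, 2, 5, 2, 1, 2, 6, 3, 2, 4, 2, 1, 2, 0, 2, 1, 2, 4, 2, 3, 6, 2, 1, 2, 5, 2, 6, 0, 5, 3, 2, 3, 1, 0, 3, 4, 5, 3, 2, 4, 0, 5, 1, 0, 5, 3, 2, 3, 1, 0, 3, 4, 5, 3, 2, 4, 0, 5, 1, 0, 5, 3, 2, 3, 1, 0, 3, 4, 5, 3, 2, 4, 0, 5, 1, 0, 5, 3, 2, 3, 1, 0, 3, 4, 5, 3, 2, 4, 0, 5, 1, 6, 2, 5, 2, 1, 2, 6, 3, 2, 4, 2, 1, 2, 0, 2, 1, 2, 4, 2, 3, 6, 2, 1, 2, 5, 2, 6, 0, 5, 3, 2, 3, 1, 0, 3, 4, 5, 3, 2, 4, 0, 5, 1, 0, 5, 3, 2, 3, 1, 0, 3, 4, 5, 3, 2, 4, 0, 5, 1, 0, 5, 3, 2, 3, 1, 0, 3, 4, 5, 3,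 2, 4, 0, 5, 1, 0, 5, 3, 2, 3, 1, 0, 3, 4, 5, 3, 2, 4, 0, 5, 1, 6, 2, 5, 2, 1, 2, 6, 3, 2, 4, 2, 1, 2, 0, 2, 1, 2, 4, 2, 3, 6, 2, 1, 2, 5, 2, 6, 0, 5, 3, 2, 3, 1, 0, 3, 4, 5, 3, 2, 4, 0, 5, 1, 0, 5, 3, 2, 3, 1, 0, 3, 4, 5, 3, 2, 4, 0, 5, 1, 6, 2, 5, 2, 1, 2, 6, 3, 2, 4, 2, 1, 2, 0, 2, 1, 2, 4, 2, 3, 6, 2, 1, 2, 5, 2, 6, 0, 5, 3, 2, 3, 1, 0, 3, 4, 5, 3, 2, 4, 0, 5, 1, 0, 5, 3, 2, 3, 1, 0, 3, 4, 5, 3, 2, 4, 0, 5, 1, 6, 2, 5, 2, 1, 2, 6, 3, 2, 4, 2, 1, 2, 0, 2, 1, 2, 4, 2, 3, 6, 2, 1, 2, 5, 2, 6, 0, 5, 3, 2, 3, 1, 0, 3, 4, 5, 3, 2, 4, 0, 5, 1, 0, 5, 3, 2, 3, 1, 0, 3, 4, 5, 3, 2, 4, 0, 5, 1, 0, 5, 3, 2, 3, 1, 0, 3,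 4, 5, 3, 2, 4, 0, 5, 1, 0, 5, 3, 2, 3, 1, 0, 3, 4, 5, 3, 2, 4, 0, 5, 1, 6, 2, 5, 2, 1, 2, 6, 3, 2, 4, 2, 1, 2, 0, 2, 1, 2, 4, 2, 3, 6, 2, 1, 2, 5, 2, 6, 0, 5, 3, 2, 3, 1, 0, 3, 4, 5, 3, 2, 4, 0, 5, 1, 0, 5, 3, 2, 3, 1, 0, 3, 4, 5, 3, 2, 4, 0, 5, 1, 6, 2, 5, 2, 1, 2, 6, 3, 2, 4, 2, 1, 2, 0, 2, 1, 2, 4, 2, 3, 6, 2, 1, 2, 5, 2, 6, 0, 5, 3, 2, 3, 1, 0, 3, 4, 5, 3, 2, 4, 0, 5, 1, 0, 5, 3, 2, 3, 1, 0, 3, 4, 5, 3, 2, 4, 0, 5, 1, 0, 5, 3, 2, 3, 1, 0, 3, 4, 5, 3, 2, 4, 0, 5, 1, 0, 5, 3, 2, 3, 1, 0, 3, 4, 5, 3, 2, 4, 0, 5, 1, 6, 2, 5, 2, 1, 2, 6, 3, 2, 4, 2, 1, 2, 0, 2, 1, 2, 4, 2, 3, 6, 2, 1, 2, 5, 2, 6, 0, 5, 3, 2, 3,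 1, 0, 3, 4, 5, 3, 2, 4, 0, 5, 1, 0, 5, 3, 2, 3, 1, 0, 3, 4, 5, 3, 2, 4, 0, 5, 1, 6, 2, 5, 2, 1, 2, 6, 3, 2, 4, 2, 1, 2, 0, 2, 1, 2, 4, 2, 3, 6, 2, 1, 2, 5, 2, 6, 0, 5, 3, 2, 3, 1, 0, 3, 4, 5, 3, 2, 4, 0, 5, 1, 0, 5, 3, 2, 3, 1, 0, 3, 4, 5, 3, 2, 4, 0, 5, 1, 6, 2, 5, 2, 1, 2, 6, 3, 2, 4, 2, 1, 2, 0, 2, 1, 2, 4, 2, 3, 6, 2, 1, 2, 5, 2, 6, 0, 5, 3, 2, 3, 1, 0, 3, 4, 5, 3, 2, 4, 0, 5, 1, 0, 5, 3, 2, 3, 1, 0, 3, 4, 5, 3, 2, 4, 0, 5, 1, 0, 5, 3, 2, 3, 1, 0, 3, 4, 5, 3, 2, 4, 0, 5, 1, 0, 5, 3, 2, 3, 1, 0, 3, 4, 5, 3, 2, 4, 0, 5, 1, 6, 2, 5, 2, 1, 2, 6, 3, 2, 4, 2, 1, 2, 0, 2, 1, 2, 4, 2, 3, 6, 2, 1, 2, 5, 2, 6, 0, 5,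 3, 2, 3, 1, 0, 3, 4, 5, 3, 2, 4, 0, 5, 1, 0, 5, 3, 2, 3, 1, 0, 3, 4, 5, 3, 2, 4, 0, 5, 1, 0, 5, 3, 2, 3, 1, 0, 3, 4, 5, 3, 2, 4, 0, 5, 1, 0, 5, 3, 2, 3, 1, 0, 3, 4, 5, 3, 2, 4, 0, 5, 1, 6, 2, 5, 2, 1, 2, 6, 3, 2, 4, 2, 1, 2, 0, 2, 1, 2, 4, 2, 3, 6, 2, 1, 2, 5, 2, 6, 0, 5, 3, 2, 3, 1, 0, 3, 4, 5, 3, 2, 4, 0, 5, 1, 0, 5, 3, 2, 3, 1, 0, 3, 4, 5, 3, 2, 4, 0, 5, 1, 6, 2, 5, 2, 1, 2, 6, 3, 2, 4, 2, 1, 2, 0, 2, 1, 2, 4, 2, 3, 6, 2, 1, 2, 5, 2, 6], [6, 2, 5, 2, 1, 2, 6, 3, 2, 4, 2, 1, 2, 0, 2, 1, 2, 4, 2, 3, 6, 2, 1, 2, 5, 2, 6, 0, 5, 3, 2, 3, 1, 0, 3, 4, 5, 3, 2, 4, 0, 5, 1, 0, 5, 3, 2, 3, 1, 0, 3, 4, 5, 3, 2, 4, 0, 5,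 1, 6, 2, 5, 2, 1, 2, 6, 3, 2, 4, 2, 1, 2, 0, 2, 1, 2, 4, 2, 3, 6, 2, 1, 2, 5, 2, 6, 0, 5, 3, 2, 3, 1, 0, 3, 4, 5, 3, 2, 4, 0, 5, 1, 0, 5, 3, 2, 3, 1, 0, 3, 4, 5, 3, 2, 4, 0, 5, 1, 6, 2, 5, 2, 1, 2, 6, 3, 2, 4, 2, 1, 2, 0, 2, 1, 2, 4, 2, 3, 6, 2, 1, 2, 5, 2, 6, 0, 5, 3, 2, 3, 1, 0, 3, 4, 5, 3, 2, 4, 0, 5, 1, 0, 5, 3, 2, 3, 1, 0, 3, 4, 5, 3, 2, 4, 0, 5, 1, 0, 5, 3, 2, 3, 1, 0, 3, 4, 5, 3, 2, 4, 0, 5, 1, 0, 5, 3, 2, 3, 1, 0, 3, 4, 5, 3, 2, 4, 0, 5, 1, 6, 2, 5, 2, 1, 2, 6, 3, 2, 4, 2, 1, 2, 0, 2, 1, 2, 4, 2, 3, 6, 2, 1, 2, 5, 2, 6, 0, 5, 3, 2, 3, 1, 0, 3, 4, 5, 3, 2, 4, 0, 5, 1, 0, 5, 3, 2, 3, 1, 0, 3, 4, 5, 3, 2,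 4, 0, 5, 1, 6, 2, 5, 2, 1, 2, 6, 3, 2, 4, 2, 1, 2, 0, 2, 1, 2, 4, 2, 3, 6, 2, 1, 2, 5, 2, 6, 0, 5, 3, 2, 3, 1, 0, 3, 4, 5, 3, 2, 4, 0, 5, 1, 0, 5, 3, 2, 3, 1, 0, 3, 4, 5, 3, 2, 4, 0, 5, 1, 6, 2, 5, 2, 1, 2, 6, 3, 2, 4, 2, 1, 2, 0, 2, 1, 2, 4, 2, 3, 6, 2, 1, 2, 5, 2, 6, 0, 5, 3, 2, 3, 1, 0, 3, 4, 5, 3, 2, 4, 0, 5, 1, 0, 5, 3, 2, 3, 1, 0, 3, 4, 5, 3, 2, 4, 0, 5, 1, 0, 5, 3, 2, 3, 1, 0, 3, 4, 5, 3, 2, 4, 0, 5, 1, 0, 5, 3, 2, 3, 1, 0, 3, 4, 5, 3, 2, 4, 0, 5, 1, 6, 2, 5, 2, 1, 2, 6, 3, 2, 4, 2, 1, 2, 0, 2, 1, 2, 4, 2, 3, 6, 2, 1, 2, 5, 2, 6, 0, 5, 3, 2, 3, 1, 0, 3, 4, 5, 3, 2, 4, 0, 5, 1, 0, 5, 3, 2, 3, 1, 0, 3, 4,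 5, 3, 2, 4, 0, 5, 1, 6, 2, 5, 2, 1, 2, 6, 3, 2, 4, 2, 1, 2, 0, 2, 1, 2, 4, 2, 3, 6, 2, 1, 2, 5, 2, 6, 0, 5, 3, 2, 3, 1, 0, 3, 4, 5, 3, 2, 4, 0, 5, 1, 0, 5, 3, 2, 3, 1, 0, 3, 4, 5, 3, 2, 4, 0, 5, 1, 0, 5, 3, 2, 3, 1, 0, 3, 4, 5, 3, 2, 4, 0, 5, 1, 0, 5, 3, 2, 3, 1, 0, 3, 4, 5, 3, 2, 4, 0, 5, 1, 6, 2, 5, 2, 1, 2, 6, 3, 2, 4, 2, 1, 2, 0, 2, 1, 2, 4, 2, 3, 6, 2, 1, 2, 5, 2, 6, 0, 5, 3, 2, 3, 1, 0, 3, 4, 5, 3, 2, 4, 0, 5, 1, 0, 5, 3, 2, 3, 1, 0, 3, 4, 5, 3, 2, 4, 0, 5, 1, 6, 2, 5, 2, 1, 2, 6, 3, 2, 4, 2, 1, 2, 0, 2, 1, 2, 4, 2, 3, 6, 2, 1, 2, 5, 2, 6, 0, 5, 3, 2, 3, 1, 0, 3, 4, 5, 3, 2, 4, 0, 5, 1, 0, 5, 3, 2, 3, 1,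 0, 3, 4, 5, 3, 2, 4, 0, 5, 1, 0, 5, 3, 2, 3, 1, 0, 3, 4, 5, 3, 2, 4, 0, 5, 1, 0, 5, 3, 2, 3, 1, 0, 3, 4, 5, 3, 2, 4, 0, 5, 1, 6, 2, 5, 2, 1, 2, 6, 3, 2, 4, 2, 1, 2, 0, 2, 1, 2, 4, 2, 3, 6, 2, 1, 2, 5, 2, 6, 0, 5, 3, 2, 3, 1, 0, 3, 4, 5, 3, 2, 4, 0, 5, 1, 0, 5, 3, 2, 3, 1, 0, 3, 4, 5, 3, 2, 4, 0, 5, 1, 6, 2, 5, 2, 1, 2, 6, 3, 2, 4, 2, 1, 2, 0, 2, 1, 2, 4, 2, 3, 6, 2, 1, 2, 5, 2, 6, 0, 5, 3, 2, 3, 1, 0, 3, 4, 5, 3, 2, 4, 0, 5, 1, 0, 5, 3, 2, 3, 1, 0, 3, 4, 5, 3, 2, 4, 0, 5, 1, 0, 5, 3, 2, 3, 1, 0, 3, 4, 5, 3, 2, 4, 0, 5, 1, 0, 5, 3, 2, 3, 1, 0, 3, 4, 5, 3, 2, 4, 0, 5, 1, 6, 2, 5, 2, 1, 2, 6, 3, 2, 4, 2, 1, 2, 0,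 2, 1, 2, 4, 2, 3, 6, 2, 1, 2, 5, 2, 6, 0, 5, 3, 2, 3, 1, 0, 3, 4, 5, 3, 2, 4, 0, 5, 1, 0, 5, 3, 2, 3, 1, 0, 3, 4, 5, 3, 2, 4, 0, 5, 1, 6, 2, 5, 2, 1, 2, 6, 3, 2, 4, 2, 1, 2, 0, 2, 1, 2, 4, 2, 3, 6, 2, 1, 2, 5, 2, 6, 0, 5, 3, 2, 3, 1, 0, 3, 4, 5, 3, 2, 4, 0, 5, 1, 0, 5, 3, 2, 3, 1, 0, 3, 4, 5, 3, 2, 4, 0, 5, 1, 0, 5, 3, 2, 3, 1, 0, 3, 4, 5, 3, 2, 4, 0, 5, 1, 0, 5, 3, 2, 3, 1, 0, 3, 4, 5, 3, 2, 4, 0, 5, 1, 6, 2, 5, 2, 1, 2, 6, 3, 2, 4, 2, 1, 2, 0, 2, 1, 2, 4, 2, 3, 6, 2, 1, 2, 5, 2, 6, 0, 5, 3, 2, 3, 1, 0, 3, 4, 5, 3, 2, 4, 0, 5, 1, 0, 5, 3, 2, 3, 1, 0, 3, 4, 5, 3, 2, 4, 0, 5, 1, 6, 2, 5, 2, 1, 2, 6, 3, 2, 4, 2,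 1, 2, 0, 2, 1, 2, 4, 2, 3, 6, 2, 1, 2, 5, 2, 6, 0, 5, 3, 2, 3, 1, 0, 3, 4, 5, 3, 2, 4, 0, 5, 1, 0, 5, 3, 2, 3, 1, 0, 3, 4, 5, 3, 2, 4, 0, 5, 1, 6, 2, 5, 2, 1, 2, 6, 3, 2, 4, 2, 1, 2, 0, 2, 1, 2, 4, 2, 3, 6, 2, 1, 2, 5, 2, 6, 0, 5, 3, 2, 3, 1, 0, 3, 4, 5, 3, 2, 4, 0, 5, 1, 0, 5, 3, 2, 3, 1, 0, 3, 4, 5, 3, 2, 4, 0, 5, 1, 0, 5, 3, 2, 3, 1, 0, 3, 4, 5, 3, 2, 4, 0, 5, 1, 0, 5, 3, 2, 3, 1, 0, 3, 4, 5, 3, 2, 4, 0, 5, 1, 6, 2, 5, 2, 1, 2, 6, 3, 2, 4, 2, 1, 2, 0, 2, 1, 2, 4, 2, 3, 6, 2, 1, 2, 5, 2, 6, 0, 5, 3, 2, 3, 1, 0, 3, 4, 5, 3, 2, 4, 0, 5, 1, 0, 5, 3, 2, 3, 1, 0, 3, 4, 5, 3, 2, 4, 0, 5, 1, 0, 5, 3, 2, 3, 1, 0, 3,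 4, 5, 3, 2, 4, 0, 5, 1, 0, 5, 3, 2, 3, 1, 0, 3, 4, 5, 3, 2, 4, 0, 5, 1, 6, 2, 5, 2, 1, 2, 6, 3, 2, 4, 2, 1, 2, 0, 2, 1, 2, 4, 2, 3, 6, 2, 1, 2, 5, 2, 6, 0, 5, 3, 2, 3, 1, 0, 3, 4, 5, 3, 2, 4, 0, 5, 1, 0, 5, 3, 2, 3, 1, 0, 3, 4, 5, 3, 2, 4, 0, 5, 1, 6, 2, 5, 2, 1, 2, 6, 3, 2, 4, 2, 1, 2, 0, 2, 1, 2, 4, 2, 3, 6, 2, 1, 2, 5, 2, 6], [6, 2, 5, 2, 1, 2, 6, 3, 2, 4, 2, 1, 2, 0, 2, 1, 2, 4, 2, 3, 6, 2, 1, 2, 5, 2, 6, 0, 5, 3, 2, 3, 1, 0, 3, 4, 5, 3, 2, 4, 0, 5, 1, 0, 5, 3, 2, 3, 1, 0, 3, 4, 5, 3, 2, 4, 0, 5, 1, 0, 5, 3, 2, 3, 1, 0, 3, 4, 5, 3, 2, 4, 0, 5, 1, 0, 5, 3, 2, 3, 1, 0, 3, 4, 5, 3, 2, 4, 0, 5, 1, 6, 2, 5, 2, 1,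 2, 6, 3, 2, 4, 2, 1, 2, 0, 2, 1, 2, 4, 2, 3, 6, 2, 1, 2, 5, 2, 6, 0, 5, 3, 2, 3, 1, 0, 3, 4, 5, 3, 2, 4, 0, 5, 1, 0, 5, 3, 2, 3, 1, 0, 3, 4, 5, 3, 2, 4, 0, 5, 1, 6, 2, 5, 2, 1, 2, 6, 3, 2, 4, 2, 1, 2, 0, 2, 1, 2, 4, 2, 3, 6, 2, 1, 2, 5, 2, 6, 0, 5, 3, 2, 3, 1, 0, 3, 4, 5, 3, 2, 4, 0, 5, 1, 0, 5, 3, 2, 3, 1, 0, 3, 4, 5, 3, 2, 4, 0, 5, 1, 0, 5, 3, 2, 3, 1, 0, 3, 4, 5, 3, 2, 4, 0, 5, 1, 0, 5, 3, 2, 3, 1, 0, 3, 4, 5, 3, 2, 4, 0, 5, 1, 6, 2, 5, 2, 1, 2, 6, 3, 2, 4, 2, 1, 2, 0, 2, 1, 2, 4, 2, 3, 6, 2, 1, 2, 5, 2, 6, 0, 5, 3, 2, 3, 1, 0, 3, 4, 5, 3, 2, 4, 0, 5, 1, 0, 5, 3, 2, 3, 1, 0, 3, 4, 5, 3, 2, 4, 0, 5, 1, 0, 5,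 3, 2, 3, 1, 0, 3, 4, 5, 3, 2, 4, 0, 5, 1, 0, 5, 3, 2, 3, 1, 0, 3, 4, 5, 3, 2, 4, 0, 5, 1, 6, 2, 5, 2, 1, 2, 6, 3, 2, 4, 2, 1, 2, 0, 2, 1, 2, 4, 2, 3, 6, 2, 1, 2, 5, 2, 6, 0, 5, 3, 2, 3, 1, 0, 3, 4, 5, 3, 2, 4, 0, 5, 1, 0, 5, 3, 2, 3, 1, 0, 3, 4, 5, 3, 2, 4, 0, 5, 1, 6, 2, 5, 2, 1, 2, 6, 3, 2, 4, 2, 1, 2, 0, 2, 1, 2, 4, 2, 3, 6, 2, 1, 2, 5, 2, 6, 0, 5, 3, 2, 3, 1, 0, 3, 4, 5, 3, 2, 4, 0, 5, 1, 0, 5, 3, 2, 3, 1, 0, 3, 4, 5, 3, 2, 4, 0, 5, 1, 0, 5, 3, 2, 3, 1, 0, 3, 4, 5, 3, 2, 4, 0, 5, 1, 0, 5, 3, 2, 3, 1, 0, 3, 4, 5, 3, 2, 4, 0, 5, 1, 6, 2, 5, 2, 1, 2, 6, 3, 2, 4, 2, 1, 2, 0, 2, 1, 2, 4, 2, 3, 6, 2, 1, 2, 5, 2,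 6, 0, 5, 3, 2, 3, 1, 0, 3, 4, 5, 3, 2, 4, 0, 5, 1, 0, 5, 3, 2, 3, 1, 0, 3, 4, 5, 3, 2, 4, 0, 5, 1, 6, 2, 5, 2, 1, 2, 6, 3, 2, 4, 2, 1, 2, 0, 2, 1, 2, 4, 2, 3, 6, 2, 1, 2, 5, 2, 6, 0, 5, 3, 2, 3, 1, 0, 3, 4, 5, 3, 2, 4, 0, 5, 1, 0, 5, 3, 2, 3, 1, 0, 3, 4, 5, 3, 2, 4, 0, 5, 1, 6, 2, 5, 2, 1, 2, 6, 3, 2, 4, 2, 1, 2, 0, 2, 1, 2, 4, 2, 3, 6, 2, 1, 2, 5, 2, 6, 0, 5, 3, 2, 3, 1, 0, 3, 4, 5, 3, 2, 4, 0, 5, 1, 0, 5, 3, 2, 3, 1, 0, 3, 4, 5, 3, 2, 4, 0, 5, 1, 0, 5, 3, 2, 3, 1, 0, 3, 4, 5, 3, 2, 4, 0, 5, 1, 0, 5, 3, 2, 3, 1, 0, 3, 4, 5, 3, 2, 4, 0, 5, 1, 6, 2, 5, 2, 1, 2, 6, 3, 2, 4, 2, 1, 2, 0, 2, 1, 2, 4, 2, 3, 6, 2, 1,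 2, 5, 2, 6, 0, 5, 3, 2, 3, 1, 0, 3, 4, 5, 3, 2, 4, 0, 5, 1, 0, 5, 3, 2, 3, 1, 0, 3, 4, 5, 3, 2, 4, 0, 5, 1, 6, 2, 5, 2, 1, 2, 6, 3, 2, 4, 2, 1, 2, 0, 2, 1, 2, 4, 2, 3, 6, 2, 1, 2, 5, 2, 6, 0, 5, 3, 2, 3, 1, 0, 3, 4, 5, 3, 2, 4, 0, 5, 1, 0, 5, 3, 2, 3, 1, 0, 3, 4, 5, 3, 2, 4, 0, 5, 1, 0, 5, 3, 2, 3, 1, 0, 3, 4, 5, 3, 2, 4, 0, 5, 1, 0, 5, 3, 2, 3, 1, 0, 3, 4, 5, 3, 2, 4, 0, 5, 1, 6, 2, 5, 2, 1, 2, 6, 3, 2, 4, 2, 1, 2, 0, 2, 1, 2, 4, 2, 3, 6, 2, 1, 2, 5, 2, 6, 0, 5, 3, 2, 3, 1, 0, 3, 4, 5, 3, 2, 4, 0, 5, 1, 0, 5, 3, 2, 3, 1, 0, 3, 4, 5, 3, 2, 4, 0, 5, 1, 6, 2, 5, 2, 1, 2, 6, 3, 2, 4, 2, 1, 2, 0, 2, 1, 2, 4, 2, 3,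 6, 2, 1, 2, 5, 2, 6, 0, 5, 3, 2, 3, 1, 0, 3, 4, 5, 3, 2, 4, 0, 5, 1, 0, 5, 3, 2, 3, 1, 0, 3, 4, 5, 3, 2, 4, 0, 5, 1, 0, 5, 3, 2, 3, 1, 0, 3, 4, 5, 3, 2, 4, 0, 5, 1, 0, 5, 3, 2, 3, 1, 0, 3, 4, 5, 3, 2, 4, 0, 5, 1, 6, 2, 5, 2, 1, 2, 6, 3, 2, 4, 2, 1, 2, 0, 2, 1, 2, 4, 2, 3, 6, 2, 1, 2, 5, 2, 6, 0, 5, 3, 2, 3, 1, 0, 3, 4, 5, 3, 2, 4, 0, 5, 1, 0, 5, 3, 2, 3, 1, 0, 3, 4, 5, 3, 2, 4, 0, 5, 1, 6, 2, 5, 2, 1, 2, 6, 3, 2, 4, 2, 1, 2, 0, 2, 1, 2, 4, 2, 3, 6, 2, 1, 2, 5, 2, 6, 0, 5, 3, 2, 3, 1, 0, 3, 4, 5, 3, 2, 4, 0, 5, 1, 0, 5, 3, 2, 3, 1, 0, 3, 4, 5, 3, 2, 4, 0, 5, 1, 0, 5, 3, 2, 3, 1, 0, 3, 4, 5, 3, 2, 4, 0, 5, 1, 0,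 5, 3, 2, 3, 1, 0, 3, 4, 5, 3, 2, 4, 0, 5, 1, 6, 2, 5, 2, 1, 2, 6, 3, 2, 4, 2, 1, 2, 0, 2, 1, 2, 4, 2, 3, 6, 2, 1, 2, 5, 2, 6, 0, 5, 3, 2, 3, 1, 0, 3, 4, 5, 3, 2, 4, 0, 5, 1, 0, 5, 3, 2, 3, 1, 0, 3, 4, 5, 3, 2, 4, 0, 5, 1, 0, 5, 3, 2, 3, 1, 0, 3, 4, 5, 3, 2, 4, 0, 5, 1, 0, 5, 3, 2, 3, 1, 0, 3, 4, 5, 3, 2, 4, 0, 5, 1, 6, 2, 5, 2, 1, 2, 6, 3, 2, 4, 2, 1, 2, 0, 2, 1, 2, 4, 2, 3, 6, 2, 1, 2, 5, 2, 6, 0, 5, 3, 2, 3, 1, 0, 3, 4, 5, 3, 2, 4, 0, 5, 1, 0, 5, 3, 2, 3, 1, 0, 3, 4, 5, 3, 2, 4, 0, 5, 1, 6, 2, 5, 2, 1, 2, 6, 3, 2, 4, 2, 1, 2, 0, 2, 1, 2, 4, 2, 3, 6, 2, 1, 2, 5, 2, 6, 0, 5, 3, 2, 3, 1, 0, 3, 4, 5, 3, 2, 4, 0,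 5, 1, 0, 5, 3, 2, 3, 1, 0, 3, 4, 5, 3, 2, 4, 0, 5, 1, 0, 5, 3, 2, 3, 1, 0, 3, 4, 5, 3, 2, 4, 0, 5, 1, 0, 5, 3, 2, 3, 1, 0, 3, 4, 5, 3, 2, 4, 0, 5, 1, 6, 2, 5, 2, 1, 2, 6, 3, 2, 4, 2, 1, 2, 0, 2, 1, 2, 4, 2, 3, 6, 2, 1, 2, 5, 2, 6, 0, 5, 3, 2, 3, 1, 0, 3, 4, 5, 3, 2, 4, 0, 5, 1, 0, 5, 3, 2, 3, 1, 0, 3, 4, 5, 3, 2, 4, 0, 5, 1, 6, 2, 5, 2, 1, 2, 6, 3, 2, 4, 2, 1, 2, 0, 2, 1, 2, 4, 2, 3, 6, 2, 1, 2, 5, 2, 6, 0, 5, 3, 2, 3, 1, 0, 3, 4, 5, 3, 2, 4, 0, 5, 1, 0, 5, 3, 2, 3, 1, 0, 3, 4, 5, 3, 2, 4, 0, 5, 1, 6, 2, 5, 2, 1, 2, 6, 3, 2, 4, 2, 1, 2, 0, 2, 1, 2, 4, 2, 3, 6, 2, 1, 2, 5, 2, 6, 0, 5, 3, 2, 3, 1, 0, 3, 4, 5, 3,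 2, 4, 0, 5, 1, 0, 5, 3, 2, 3, 1, 0, 3, 4, 5, 3, 2, 4, 0, 5, 1, 0, 5, 3, 2, 3, 1, 0, 3, 4, 5, 3, 2, 4, 0, 5, 1, 0, 5, 3, 2, 3, 1, 0, 3, 4, 5, 3, 2, 4, 0, 5, 1, 6, 2, 5, 2, 1, 2, 6, 3, 2, 4, 2, 1, 2, 0, 2, 1, 2, 4, 2, 3, 6, 2, 1, 2, 5, 2, 6, 0, 5, 3, 2, 3, 1, 0, 3, 4, 5, 3, 2, 4, 0, 5, 1, 0, 5, 3, 2, 3, 1, 0, 3, 4, 5, 3, 2, 4, 0, 5, 1, 6, 2, 5, 2, 1, 2, 6, 3, 2, 4, 2, 1, 2, 0, 2, 1, 2, 4, 2, 3, 6, 2, 1, 2, 5, 2, 6], [0, 5, 3, 2, 3, 1, 0, 3, 4, 5, 3, 2, 4, 0, 5, 1, 0, 5, 3, 2, 3, 1, 0, 3, 4, 5, 3, 2, 4, 0, 5, 1, 6, 2, 5, 2, 1, 2, 6, 3, 2, 4, 2, 1, 2, 0, 2, 1, 2, 4, 2, 3, 6, 2, 1, 2, 5, 2, 6, 0, 5, 3, 2, 3, 1, 0, 3,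 4, 5, 3, 2, 4, 0, 5, 1, 0, 5, 3, 2, 3, 1, 0, 3, 4, 5, 3, 2, 4, 0, 5, 1, 6, 2, 5, 2, 1, 2, 6, 3, 2, 4, 2, 1, 2, 0, 2, 1, 2, 4, 2, 3, 6, 2, 1, 2, 5, 2, 6, 0, 5, 3, 2, 3, 1, 0, 3, 4, 5, 3, 2, 4, 0, 5, 1, 0, 5, 3, 2, 3, 1, 0, 3, 4, 5, 3, 2, 4, 0, 5, 1, 0, 5, 3, 2, 3, 1, 0, 3, 4, 5, 3, 2, 4, 0, 5, 1, 0, 5, 3, 2, 3, 1, 0, 3, 4, 5, 3, 2, 4, 0, 5, 1, 6, 2, 5, 2, 1, 2, 6, 3, 2, 4, 2, 1, 2, 0, 2, 1, 2, 4, 2, 3, 6, 2, 1, 2, 5, 2, 6, 0, 5, 3, 2, 3, 1, 0, 3, 4, 5, 3, 2, 4, 0, 5, 1, 0, 5, 3, 2, 3, 1, 0, 3, 4, 5, 3, 2, 4, 0, 5, 1, 6, 2, 5, 2, 1, 2, 6, 3, 2, 4, 2, 1, 2, 0, 2, 1, 2, 4, 2, 3, 6, 2, 1, 2, 5, 2, 6, 0, 5, 3, 2, 3,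 1, 0, 3, 4, 5, 3, 2, 4, 0, 5, 1, 0, 5, 3, 2, 3, 1, 0, 3, 4, 5, 3, 2, 4, 0, 5, 1, 6, 2, 5, 2, 1, 2, 6, 3, 2, 4, 2, 1, 2, 0, 2, 1, 2, 4, 2, 3, 6, 2, 1, 2, 5, 2, 6, 0, 5, 3, 2, 3, 1, 0, 3, 4, 5, 3, 2, 4, 0, 5, 1, 0, 5, 3, 2, 3, 1, 0, 3, 4, 5, 3, 2, 4, 0, 5, 1, 0, 5, 3, 2, 3, 1, 0, 3, 4, 5, 3, 2, 4, 0, 5, 1, 0, 5, 3, 2, 3, 1, 0, 3, 4, 5, 3, 2, 4, 0, 5, 1, 6, 2, 5, 2, 1, 2, 6, 3, 2, 4, 2, 1, 2, 0, 2, 1, 2, 4, 2, 3, 6, 2, 1, 2, 5, 2, 6, 0, 5, 3, 2, 3, 1, 0, 3, 4, 5, 3, 2, 4, 0, 5, 1, 0, 5, 3, 2, 3, 1, 0, 3, 4, 5, 3, 2, 4, 0, 5, 1, 6, 2, 5, 2, 1, 2, 6, 3, 2, 4, 2, 1, 2, 0, 2, 1, 2, 4, 2, 3, 6, 2, 1, 2, 5, 2, 6, 0, 5,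 3, 2, 3, 1, 0, 3, 4, 5, 3, 2, 4, 0, 5, 1, 0, 5, 3, 2, 3, 1, 0, 3, 4, 5, 3, 2, 4, 0, 5, 1, 0, 5, 3, 2, 3, 1, 0, 3, 4, 5, 3, 2, 4, 0, 5, 1, 0, 5, 3, 2, 3, 1, 0, 3, 4, 5, 3, 2, 4, 0, 5, 1, 6, 2, 5, 2, 1, 2, 6, 3, 2, 4, 2, 1, 2, 0, 2, 1, 2, 4, 2, 3, 6, 2, 1, 2, 5, 2, 6, 0, 5, 3, 2, 3, 1, 0, 3, 4, 5, 3, 2, 4, 0, 5, 1, 0, 5, 3, 2, 3, 1, 0, 3, 4, 5, 3, 2, 4, 0, 5, 1, 6, 2, 5, 2, 1, 2, 6, 3, 2, 4, 2, 1, 2, 0, 2, 1, 2, 4, 2, 3, 6, 2, 1, 2, 5, 2, 6, 0, 5, 3, 2, 3, 1, 0, 3, 4, 5, 3, 2, 4, 0, 5, 1, 0, 5, 3, 2, 3, 1, 0, 3, 4, 5, 3, 2, 4, 0, 5, 1, 0, 5, 3, 2, 3, 1, 0, 3, 4, 5, 3, 2, 4, 0, 5, 1, 0, 5, 3, 2, 3, 1, 0, 3, 4, 5,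 3, 2, 4, 0, 5, 1, 6, 2, 5, 2, 1, 2, 6, 3, 2, 4, 2, 1, 2, 0, 2, 1, 2, 4, 2, 3, 6, 2, 1, 2, 5, 2, 6, 0, 5, 3, 2, 3, 1, 0, 3, 4, 5, 3, 2, 4, 0, 5, 1, 0, 5, 3, 2, 3, 1, 0, 3, 4, 5, 3, 2, 4, 0, 5, 1, 6, 2, 5, 2, 1, 2, 6, 3, 2, 4, 2, 1, 2, 0, 2, 1, 2, 4, 2, 3, 6, 2, 1, 2, 5, 2, 6, 0, 5, 3, 2, 3, 1, 0, 3, 4, 5, 3, 2, 4, 0, 5, 1, 0, 5, 3, 2, 3, 1, 0, 3, 4, 5, 3, 2, 4, 0, 5, 1, 0, 5, 3, 2, 3, 1, 0, 3, 4, 5, 3, 2, 4, 0, 5, 1, 0, 5, 3, 2, 3, 1, 0, 3, 4, 5, 3, 2, 4, 0, 5, 1, 6, 2, 5, 2, 1, 2, 6, 3, 2, 4, 2, 1, 2, 0, 2, 1, 2, 4, 2, 3, 6, 2, 1, 2, 5, 2, 6, 0, 5, 3, 2, 3, 1, 0, 3, 4, 5, 3, 2, 4, 0, 5, 1, 0, 5, 3, 2, 3, 1, 0,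 3, 4, 5, 3, 2, 4, 0, 5, 1, 6, 2, 5, 2, 1, 2, 6, 3, 2, 4, 2, 1, 2, 0, 2, 1, 2, 4, 2, 3, 6, 2, 1, 2, 5, 2, 6, 0, 5, 3, 2, 3, 1, 0, 3, 4, 5, 3, 2, 4, 0, 5, 1, 0, 5, 3, 2, 3, 1, 0, 3, 4, 5, 3, 2, 4, 0, 5, 1, 6, 2, 5, 2, 1, 2, 6, 3, 2, 4, 2, 1, 2, 0, 2, 1, 2, 4, 2, 3, 6, 2, 1, 2, 5, 2, 6, 0, 5, 3, 2, 3, 1, 0, 3, 4, 5, 3, 2, 4, 0, 5, 1, 0, 5, 3, 2, 3, 1, 0, 3, 4, 5, 3, 2, 4, 0, 5, 1, 0, 5, 3, 2, 3, 1, 0, 3, 4, 5, 3, 2, 4, 0, 5, 1, 0, 5, 3, 2, 3, 1, 0, 3, 4, 5, 3, 2, 4, 0, 5, 1, 6, 2, 5, 2, 1, 2, 6, 3, 2, 4, 2, 1, 2, 0, 2, 1, 2, 4, 2, 3, 6, 2, 1, 2, 5, 2, 6, 0, 5, 3, 2, 3, 1, 0, 3, 4, 5, 3, 2, 4, 0, 5, 1, 0, 5, 3, 2,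 3, 1, 0, 3, 4, 5, 3, 2, 4, 0, 5, 1, 6, 2, 5, 2, 1, 2, 6, 3, 2, 4, 2, 1, 2, 0, 2, 1, 2, 4, 2, 3, 6, 2, 1, 2, 5, 2, 6, 0, 5, 3, 2, 3, 1, 0, 3, 4, 5, 3, 2, 4, 0, 5, 1, 0, 5, 3, 2, 3, 1, 0, 3, 4, 5, 3, 2, 4, 0, 5, 1, 0, 5, 3, 2, 3, 1, 0, 3, 4, 5, 3, 2, 4, 0, 5, 1, 0, 5, 3, 2, 3, 1, 0, 3, 4, 5, 3, 2, 4, 0, 5, 1, 6, 2, 5, 2, 1, 2, 6, 3, 2, 4, 2, 1, 2, 0, 2, 1, 2, 4, 2, 3, 6, 2, 1, 2, 5, 2, 6, 0, 5, 3, 2, 3, 1, 0, 3, 4, 5, 3, 2, 4, 0, 5, 1, 0, 5, 3, 2, 3, 1, 0, 3, 4, 5, 3, 2, 4, 0, 5, 1, 0, 5, 3, 2, 3, 1, 0, 3, 4, 5, 3, 2, 4, 0, 5, 1, 0, 5, 3, 2, 3, 1, 0, 3, 4, 5, 3, 2, 4, 0, 5, 1, 6, 2, 5, 2, 1, 2, 6, 3, 2, 4, 2, 1,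 2, 0, 2, 1, 2, 4, 2, 3, 6, 2, 1, 2, 5, 2, 6, 0, 5, 3, 2, 3, 1, 0, 3, 4, 5, 3, 2, 4, 0, 5, 1, 0, 5, 3, 2, 3, 1, 0, 3, 4, 5, 3, 2, 4, 0, 5, 1, 6, 2, 5, 2, 1, 2, 6, 3, 2, 4, 2, 1, 2, 0, 2, 1, 2, 4, 2, 3, 6, 2, 1, 2, 5, 2, 6, 0, 5, 3, 2, 3, 1, 0, 3, 4, 5, 3, 2, 4, 0, 5, 1, 0, 5, 3, 2, 3, 1, 0, 3, 4, 5, 3, 2, 4, 0, 5, 1, 0, 5, 3, 2, 3, 1, 0, 3, 4, 5, 3, 2, 4, 0, 5, 1, 0, 5, 3, 2, 3, 1, 0, 3, 4, 5, 3, 2, 4, 0, 5, 1, 6, 2, 5, 2, 1, 2, 6, 3, 2, 4, 2, 1, 2, 0, 2, 1, 2, 4, 2, 3, 6, 2, 1, 2, 5, 2, 6, 0, 5, 3, 2, 3, 1, 0, 3, 4, 5, 3, 2, 4, 0, 5, 1, 0, 5, 3, 2, 3, 1, 0, 3, 4, 5, 3, 2, 4, 0, 5, 1, 6, 2, 5, 2, 1, 2, 6, 3, 2,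 4, 2, 1, 2, 0, 2, 1, 2, 4, 2, 3, 6, 2, 1, 2, 5, 2, 6, 0, 5, 3, 2, 3, 1, 0, 3, 4, 5, 3, 2, 4, 0, 5, 1, 0, 5, 3, 2, 3, 1, 0, 3, 4, 5, 3, 2, 4, 0, 5, 1, 0, 5, 3, 2, 3, 1, 0, 3, 4, 5, 3, 2, 4, 0, 5, 1, 0, 5, 3, 2, 3, 1, 0, 3, 4, 5, 3, 2, 4, 0, 5, 1]]

/-- The four involutions as words in the generators of the matrix group. -/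
def imgJ : List (List ℕ) := [[0, 1, 1, 0, 1, 1, 0, 1, 1, 0, 0, 0, 1, 1, 0, 0, 1], [1, 0, 0, 0, 1, 0, 1, 0, 0, 0, 0, 1, 0, 1, 0, 1], [1, 1, 0, 1, 1, 0, 0, 0, 1, 1], [0, 1, 1, 0, 1, 1, 0, 1, 0, 0, 0, 1, 0, 0, 1, 0, 0, 1]]

/-- The generators of the matrix group as words in the involutions. -/
def backJ : List (List ℕ) := [[1, 0, 2, 3, 2, 3, 1, 2, 0, 2, 0, 1], [1, 2, 3, 1, 0, 2, 3, 2, 1, 3, 2, 3, 2]]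

/-- Relators on four involutions. -/
def relsM : List PowRel := [
  ([0, 1], 3),
  ([0, 2], 5),
  ([0, 3], 3),
  ([1, 2], 3),
  ([1, 3], 6),
  ([2, 3], 2),
  ([0, 1, 2, 0, 1, 2, 1], 3),
  ([0, 1, 3, 1, 0, 3, 1, 3], 1),
  ([1, 2, 3, 1, 3], 2)]

/-- The relators on the first three involutions. -/
def relsMH : List PowRel := [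
  ([0, 1], 3),
  ([0, 2], 5),
  ([1, 2], 3),
  ([0, 1, 2, 0, 1, 2, 1], 3)]

/-- The four involutions in the presented O'Nan group. -/
def wordsM : List (List ℕ) := [[5, 0, 6, 1, 4, 0, 2, 0, 6, 1, 5, 0, 6, 1, 4, 0, 2, 0, 6, 1, 5, 0, 6, 1, 4, 0, 2, 0, 6, 1, 5, 0, 6, 1, 4, 0, 2, 0, 6, 1, 5, 0, 6, 1, 4, 0, 2, 0, 6, 1, 5, 0, 6, 1, 4, 0, 2, 0, 6, 1, 5, 0, 6, 1, 4, 0, 2, 0, 6, 1, 5, 0, 6, 1, 4, 0, 2, 0, 6, 1, 5, 2, 3, 1, 6, 3, 0, 3, 6, 1, 3, 2, 0, 6, 1, 4, 0, 2, 0, 6, 1, 5, 0, 6, 1, 4, 0, 2, 0, 6, 1, 5, 0, 6, 1, 4, 0, 2, 0, 6, 1, 5, 0, 6, 1, 4, 0, 2, 0, 6, 1, 5, 0, 6, 1, 4, 0, 2, 0, 6, 1, 5, 0, 6, 1, 4, 0, 2, 0, 6, 1,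 5, 0, 6, 1, 4, 0, 2, 0, 6, 1, 5, 0, 6, 1, 4, 0, 2, 0, 6, 1, 5, 2, 3, 1, 6, 3, 0, 3, 6, 1, 3, 2, 0, 6, 1, 4, 0, 2, 0, 6, 1, 5, 0, 6, 1, 4, 0, 2, 0, 6, 1, 5, 0, 6, 1, 4, 0, 2, 0, 6, 1, 5, 0, 6, 1, 4, 0, 2, 0, 6, 1, 5, 2, 3, 1, 6, 3, 0, 3, 6, 1, 3, 2, 0, 6, 1, 4, 0, 2, 0, 6, 1, 5, 0, 6, 1, 4, 0, 2, 0, 6, 1, 5, 0, 6, 1, 4, 0, 2, 0, 6, 1, 5, 0, 6, 1, 4, 0, 2, 0, 6, 1, 5, 0, 6, 1, 4, 0, 2, 0, 6, 1, 5, 0, 6, 1, 4, 0, 2, 0, 6, 1, 5, 0, 6, 1, 4, 0, 2, 0, 6, 1, 5, 0, 6, 1, 4, 0, 2, 0, 6, 1, 5, 0, 6, 1, 4, 0, 2, 0, 6, 1, 5, 0, 6, 1, 4, 0, 2, 0, 6, 1, 5, 0, 6, 1, 4, 0, 2, 0, 6, 1, 5, 0, 6, 1, 4, 0, 2, 0, 6, 1, 5, 2, 3, 1,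 6, 3, 0, 3, 6, 1, 3, 2, 0, 6, 1, 4, 0, 2, 0, 6, 1, 5, 0, 6, 1, 4, 0, 2, 0, 6, 1, 5, 0, 6, 1, 4, 0, 2, 0, 6, 1, 5, 0, 6, 1, 4, 0, 2, 0, 6, 1, 5, 0, 6, 1, 4, 0, 2, 0, 6, 1, 5, 0, 6, 1, 4, 0, 2, 0, 6, 1, 5, 0, 6, 1, 4, 0, 2, 0, 6, 1, 5, 0, 6, 1, 4, 0, 2, 0, 6, 1, 5, 2, 3, 1, 6, 3, 0, 3, 6, 1, 3, 2, 0, 6, 1, 4, 0, 2, 0, 6, 1, 5, 0, 6, 1, 4, 0, 2, 0, 6, 1, 5, 0, 6, 1, 4, 0, 2, 0, 6, 1, 5, 0, 6, 1, 4, 0, 2, 0, 6, 1, 5, 0, 6, 1, 4, 0, 2, 0, 6, 1, 5, 0, 6, 1, 4, 0, 2, 0, 6, 1, 5, 0, 6, 1, 4, 0, 2, 0, 6, 1, 5, 0, 6, 1, 4, 0, 2, 0, 6, 1], [5, 2, 3, 1, 6, 3, 0, 3, 6, 1, 3, 2, 0, 6, 1, 4, 0, 2, 0, 6, 1, 5, 0, 6, 1, 4, 0, 2,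 0, 6, 1, 5, 0, 6, 1, 4, 0, 2, 0, 6, 1, 5, 0, 6, 1, 4, 0, 2, 0, 6, 1, 5, 0, 6, 1, 4, 0, 2, 0, 6, 1, 5, 0, 6, 1, 4, 0, 2, 0, 6, 1, 5, 0, 6, 1, 4, 0, 2, 0, 6, 1, 5, 0, 6, 1, 4, 0, 2, 0, 6, 1, 5, 0, 6, 1, 4, 0, 2, 0, 6, 1, 5, 0, 6, 1, 4, 0, 2, 0, 6, 1, 5, 0, 6, 1, 4, 0, 2, 0, 6, 1, 5, 0, 6, 1, 4, 0, 2, 0, 6, 1, 5, 2, 3, 1, 6, 3, 0, 3, 6, 1, 3, 2, 0, 6, 1, 4, 0, 2, 0, 6, 1, 5, 0, 6, 1, 4, 0, 2, 0, 6, 1, 5, 0, 6, 1, 4, 0, 2, 0, 6, 1, 5, 0, 6, 1, 4, 0, 2, 0, 6, 1, 5, 2, 3, 1, 6, 3, 0, 3, 6, 1, 3, 2, 0, 6, 1, 4, 0, 2, 0, 6, 1, 5, 0, 6, 1, 4, 0, 2, 0, 6, 1, 5, 0, 6, 1, 4, 0, 2, 0, 6, 1, 5, 0, 6, 1, 4, 0, 2, 0, 6, 1, 5,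 0, 6, 1, 4, 0, 2, 0, 6, 1, 5, 0, 6, 1, 4, 0, 2, 0, 6, 1, 5, 0, 6, 1, 4, 0, 2, 0, 6, 1, 5, 0, 6, 1, 4, 0, 2, 0, 6, 1, 5, 0, 6, 1, 4, 0, 2, 0, 6, 1, 5, 0, 6, 1, 4, 0, 2, 0, 6, 1, 5, 0, 6, 1, 4, 0, 2, 0, 6, 1, 5, 0, 6, 1, 4, 0, 2, 0, 6, 1, 5, 2, 3, 1, 6, 3, 0, 3, 6, 1, 3, 2, 0, 6, 1, 4, 0, 2, 0, 6, 1, 5, 0, 6, 1, 4, 0, 2, 0, 6, 1, 5, 0, 6, 1, 4, 0, 2, 0, 6, 1, 5, 0, 6, 1, 4, 0, 2, 0, 6, 1, 5, 2, 3, 1, 6, 3, 0, 3, 6, 1, 3, 2, 5], [5, 0, 6, 1, 4, 0, 2, 0, 6, 1, 5, 0, 6, 1, 4, 0, 2, 0, 6, 1, 5, 0, 6, 1, 4, 0, 2, 0, 6, 1, 5, 0, 6, 1, 4, 0, 2, 0, 6, 1, 5, 0, 6, 1, 4, 0, 2, 0, 6, 1, 5, 0, 6, 1, 4, 0, 2, 0, 6, 1, 5, 0, 6,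 1, 4, 0, 2, 0, 6, 1, 5, 0, 6, 1, 4, 0, 2, 0, 6, 1, 5, 2, 3, 1, 6, 3, 0, 3, 6, 1, 3, 2, 0, 6, 1, 4, 0, 2, 0, 6, 1, 5, 0, 6, 1, 4, 0, 2, 0, 6, 1, 5, 0, 6, 1, 4, 0, 2, 0, 6, 1, 5, 0, 6, 1, 4, 0, 2, 0, 6, 1, 5, 2, 3, 1, 6, 3, 0, 3, 6, 1, 3, 2, 0, 6, 1, 4, 0, 2, 0, 6, 1, 5, 0, 6, 1, 4, 0, 2, 0, 6, 1, 5, 0, 6, 1, 4, 0, 2, 0, 6, 1, 5, 0, 6, 1, 4, 0, 2, 0, 6, 1, 5, 0, 6, 1, 4, 0, 2, 0, 6, 1, 5, 0, 6, 1, 4, 0, 2, 0, 6, 1, 5, 0, 6, 1, 4, 0, 2, 0, 6, 1, 5, 0, 6, 1, 4, 0, 2, 0, 6, 1, 5, 2, 3, 1, 6, 3, 0, 3, 6, 1, 3, 2, 0, 6, 1, 4, 0, 2, 0, 6, 1, 5, 0, 6, 1, 4, 0, 2, 0, 6, 1, 5, 0, 6, 1, 4, 0, 2, 0, 6, 1, 5, 0, 6, 1, 4, 0,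 2, 0, 6, 1, 5, 0, 6, 1, 4, 0, 2, 0, 6, 1, 5, 0, 6, 1, 4, 0, 2, 0, 6, 1, 5, 0, 6, 1, 4, 0, 2, 0, 6, 1, 5, 0, 6, 1, 4, 0, 2, 0, 6, 1, 5, 2, 3, 1, 6, 3, 0, 3, 6, 1, 3, 2, 0, 6, 1, 4, 0, 2, 0, 6, 1, 5, 0, 6, 1, 4, 0, 2, 0, 6, 1, 5, 0, 6, 1, 4, 0, 2, 0, 6, 1, 5, 0, 6, 1, 4, 0, 2, 0, 6, 1, 5, 2, 3, 1, 6, 3, 0, 3, 6, 1, 3, 2, 0, 6, 1, 4, 0, 2, 0, 6, 1, 5, 0, 6, 1, 4, 0, 2, 0, 6, 1, 5, 0, 6, 1, 4, 0, 2, 0, 6, 1, 5, 0, 6, 1, 4, 0, 2, 0, 6, 1, 5, 0, 6, 1, 4, 0, 2, 0, 6, 1, 5, 0, 6, 1, 4, 0, 2, 0, 6, 1, 5, 0, 6, 1, 4, 0, 2, 0, 6, 1, 5, 0, 6, 1, 4, 0, 2, 0, 6, 1], [5, 0, 6, 1, 4, 0, 2, 0, 6, 1, 5, 0, 6, 1, 4, 0, 2, 0, 6, 1,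 5, 0, 6, 1, 4, 0, 2, 0, 6, 1, 5, 0, 6, 1, 4, 0, 2, 0, 6, 1, 5, 0, 6, 1, 4, 0, 2, 0, 6, 1, 5, 0, 6, 1, 4, 0, 2, 0, 6, 1, 5, 0, 6, 1, 4, 0, 2, 0, 6, 1, 5, 0, 6, 1, 4, 0, 2, 0, 6, 1, 5, 2, 3, 1, 6, 3, 0, 3, 6, 1, 3, 2, 0, 6, 1, 4, 0, 2, 0, 6, 1, 5, 0, 6, 1, 4, 0, 2, 0, 6, 1, 5, 0, 6, 1, 4, 0, 2, 0, 6, 1, 5, 0, 6, 1, 4, 0, 2, 0, 6, 1, 5, 0, 6, 1, 4, 0, 2, 0, 6, 1, 5, 0, 6, 1, 4, 0, 2, 0, 6, 1, 5, 0, 6, 1, 4, 0, 2, 0, 6, 1, 5, 0, 6, 1, 4, 0, 2, 0, 6, 1, 5, 0, 6, 1, 4, 0, 2, 0, 6, 1, 5, 0, 6, 1, 4, 0, 2, 0, 6, 1, 5, 0, 6, 1, 4, 0, 2, 0, 6, 1, 5, 0, 6, 1, 4, 0, 2, 0, 6, 1, 5, 2, 3, 1, 6, 3, 0, 3, 6, 1, 3, 2, 0, 6, 1,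 4, 0, 2, 0, 6, 1, 5, 0, 6, 1, 4, 0, 2, 0, 6, 1, 5, 0, 6, 1, 4, 0, 2, 0, 6, 1, 5, 0, 6, 1, 4, 0, 2, 0, 6, 1, 5, 2, 3, 1, 6, 3, 0, 3, 6, 1, 3, 2, 0, 6, 1, 4, 0, 2, 0, 6, 1, 5, 0, 6, 1, 4, 0, 2, 0, 6, 1, 5, 0, 6, 1, 4, 0, 2, 0, 6, 1, 5, 0, 6, 1, 4, 0, 2, 0, 6, 1, 5, 0, 6, 1, 4, 0, 2, 0, 6, 1, 5, 0, 6, 1, 4, 0, 2, 0, 6, 1, 5, 0, 6, 1, 4, 0, 2, 0, 6, 1, 5, 0, 6, 1, 4, 0, 2, 0, 6, 1]]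

/-- Words moving each point `k` of `0, …, 3` to each later point while fixing the earlier ones. -/
def treeM : List (List (List ℕ)) := [[[], [0, 2], [0, 1], [0, 2, 1], [1, 2, 0, 2], [2, 0, 2], [2, 1], [1], [2], [1, 2], [3, 0, 1]], [[], [2, 1, 3, 0, 2], [0, 1, 3, 2, 1], [1, 3, 2, 1, 0], [1, 2, 0, 1, 2, 1], [1, 3, 2, 1], [1, 0, 2, 0, 1], [0], [3], [1, 2, 1, 0, 2, 1]], [[], [0, 3, 0], [0, 1, 2, 1, 0, 2, 1, 0], [2, 0, 1, 0, 2, 0, 3, 0], [0, 2, 1, 3, 0, 2, 0, 3], [3, 0, 2, 1, 0, 2, 0, 3, 1], [2, 0, 1, 0, 2], [3, 1, 3, 2, 0, 2, 0, 1], [2, 0, 2, 0, 3, 2, 0, 1, 0]], [[], [0, 3, 1, 2, 0, 1, 2, 1, 0], [2, 1, 3, 2, 0, 2,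 1, 0, 2, 1, 0, 2], [0, 2, 1, 0, 3, 0, 2], [3, 1, 0, 2, 0, 2, 1, 0, 2, 1], [2, 0, 3, 0, 1, 2, 0], [2, 0, 1, 2, 0, 1, 2, 0, 3, 1, 2, 1], [1, 2, 0, 1, 2, 0, 2, 0, 1, 3]]]

/-- The four involutions on eleven points, as pairs of exchanged points. -/
def imgM : List (List (Fin 11 × Fin 11)) := [[(1, 8), (2, 7), (3, 6), (5, 10)], [(0, 7), (3, 6), (4, 5), (8, 9)], [(0, 8), (1, 5), (3, 9), (6, 7)], [(1, 9), (2, 10), (3, 5), (6, 7)]]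

/-- The third base point. -/
def basePt : ℕ := 38050

/-- Words in the six nodes fixing the first two base points, giving the orbit of the third. -/
def baseWords : List (List ℕ) := [[], [1, 3, 2, 1, 4, 3, 2, 3, 2, 3, 5, 2, 3, 4, 3, 0, 1, 2], [2, 1, 0, 4, 3, 2, 1, 5, 4, 3, 2, 1, 3, 2, 5, 2, 3, 2, 3, 1, 2, 3, 4, 5, 2, 3, 4, 1, 2], [1, 0, 4, 3, 2, 1, 3, 2, 3, 5, 4, 3, 2, 3, 4, 5, 4, 5, 4, 2, 3, 2, 3, 4, 3, 2, 3, 1, 2, 3, 4, 0, 1], [1, 3, 2, 1, 3, 2, 4, 3, 2, 1, 0, 3, 2, 3, 4, 3, 5, 4, 2, 3, 4, 5, 2, 3, 4, 1, 2, 3, 2, 3, 4, 3, 1, 2, 1], [1, 2, 1, 0, 3, 4, 3, 2, 1, 3, 2, 1, 4, 3, 2, 3, 2, 4, 5, 3, 5, 4, 2, 3, 2, 3,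 4, 1, 2, 3, 1, 2, 3, 4, 3, 1, 2, 3, 1], [1, 2, 3, 4, 3, 2, 1, 3, 2, 3, 4, 3, 2, 1, 3, 2, 4, 3, 5, 0, 5, 4, 3, 1, 2, 3, 4, 0, 1, 2, 3, 2, 3, 4, 3, 0, 1, 2, 1], [2, 1, 4, 3, 2, 1, 3, 2, 1, 0, 3, 4, 3, 2, 1, 3, 2, 1, 0, 4, 5, 1, 2, 3, 4, 3, 2, 3, 1, 2, 3, 4, 5, 1, 2, 3, 4, 3, 2, 1], [1, 2, 1, 3, 2, 1, 0, 3, 4, 3, 2, 3, 2, 1, 4, 3, 2, 1, 3, 2, 4, 5, 1, 2, 3, 4, 3, 2, 3, 0, 1, 2, 3, 4, 5, 2, 3, 4, 1, 2], [4, 3, 2, 1, 3, 2, 3, 4, 3, 2, 1, 3, 2, 1, 3, 4, 3, 2, 1, 0, 5, 4, 5, 4, 2, 3, 1, 2, 3, 4, 5, 1, 2, 3, 4, 0, 1, 2, 3, 1, 2, 3, 4, 1], [1, 3, 2, 1, 0, 3, 4, 3, 2, 1, 3, 2, 3, 2, 1, 4, 3, 2, 1, 3, 2, 1, 3, 0, 3, 1, 2,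 3, 1, 2, 3, 4, 3, 2, 3, 0, 1, 2, 3, 4, 3, 0, 1, 2, 3, 2, 1], [1, 0, 2, 1, 4, 3, 2, 1, 3, 5, 4, 3, 2, 3, 2, 1, 4, 3, 2, 3, 2, 4, 5, 4, 3, 1, 2, 3, 4, 5, 0, 1, 2, 3, 4, 2, 3, 1, 2, 3, 4, 0, 1, 2, 3, 2, 1], [1, 2, 1, 4, 3, 2, 5, 4, 3, 2, 1, 0, 3, 2, 3, 4, 3, 2, 1, 3, 2, 1, 3, 0, 2, 3, 1, 2, 3, 4, 0, 1, 2, 3, 2, 3, 4, 1, 2, 3, 2, 3, 1, 2, 3, 4, 3], [4, 3, 2, 1, 3, 2, 4, 3, 2, 1, 0, 5, 4, 3, 2, 1, 3, 2, 4, 3, 2, 3, 4, 3, 5, 1, 2, 3, 4, 1, 2, 3, 1, 2, 3, 4, 3, 2, 3, 1, 2, 3, 4, 2, 3, 1, 2, 1], [1, 3, 2, 1, 4, 3, 2, 3, 2, 3, 5, 2, 3, 4, 3, 0, 1, 2, 1, 3, 2, 1, 4, 3, 2, 3, 2, 3, 5, 2, 3, 4, 3, 0, 1, 2], [2, 1, 0, 4, 3,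 2, 1, 5, 4, 3, 2, 1, 3, 2, 5, 2, 3, 2, 3, 1, 2, 3, 4, 5, 2, 3, 4, 1, 2, 1, 3, 2, 1, 4, 3, 2, 3, 2, 3, 5, 2, 3, 4, 3, 0, 1, 2], [1, 2, 3, 4, 3, 2, 1, 3, 2, 3, 4, 3, 2, 1, 3, 2, 4, 3, 5, 0, 5, 4, 3, 1, 2, 3, 4, 0, 1, 2, 3, 2, 3, 4, 3, 0, 1, 2, 3, 2, 1, 4, 3, 2, 3, 2, 3, 5, 2, 3, 4, 3, 0, 1, 2], [2, 1, 4, 3, 2, 1, 3, 2, 1, 0, 3, 4, 3, 2, 1, 3, 2, 1, 0, 4, 5, 1, 2, 3, 4, 3, 2, 3, 1, 2, 3, 4, 5, 1, 2, 3, 4, 3, 2, 3, 2, 1, 4, 3, 2, 3, 2, 3, 5, 2, 3, 4, 3, 0, 1, 2], [1, 2, 1, 3, 2, 1, 0, 3, 4, 3, 2, 3, 2, 1, 4, 3, 2, 1, 3, 2, 4, 5, 1, 2, 3, 4, 3, 2, 3, 0, 1, 2, 3, 4, 5, 2, 3, 4, 1, 2, 1, 3, 2, 1, 4, 3, 2, 3, 2, 3, 5,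 2, 3, 4, 3, 0, 1, 2], [4, 3, 2, 1, 3, 2, 3, 4, 3, 2, 1, 3, 2, 1, 3, 4, 3, 2, 1, 0, 5, 4, 5, 4, 2, 3, 1, 2, 3, 4, 5, 1, 2, 3, 4, 0, 1, 2, 3, 1, 2, 3, 4, 3, 2, 1, 4, 3, 2, 3, 2, 3, 5, 2, 3, 4, 3, 0, 1, 2], [1, 0, 2, 1, 4, 3, 2, 1, 3, 5, 4, 3, 2, 3, 2, 1, 4, 3, 2, 3, 2, 4, 5, 4, 3, 1, 2, 3, 4, 5, 0, 1, 2, 3, 4, 2, 3, 1, 2, 3, 4, 0, 1, 2, 3, 2, 3, 2, 1, 4, 3, 2, 3, 2, 3, 5, 2, 3, 4, 3, 0, 1, 2], [4, 3, 2, 1, 3, 2, 4, 3, 2, 1, 0, 5, 4, 3, 2, 1, 3, 2, 4, 3, 2, 3, 4, 3, 5, 1, 2, 3, 4, 1, 2, 3, 1, 2, 3, 4, 3, 2, 3, 1, 2, 3, 4, 2, 3, 1, 2, 3, 2, 1, 4, 3, 2, 3, 2, 3, 5, 2, 3, 4, 3, 0, 1, 2], [1, 3, 2, 1, 3, 2, 4, 3, 2, 1,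 0, 3, 2, 3, 4, 3, 5, 4, 2, 3, 4, 5, 2, 3, 4, 1, 2, 3, 2, 3, 4, 3, 1, 2, 1, 2, 1, 0, 4, 3, 2, 1, 5, 4, 3, 2, 1, 3, 2, 5, 2, 3, 2, 3, 1, 2, 3, 4, 5, 2, 3, 4, 1, 2], [1, 2, 1, 0, 3, 4, 3, 2, 1, 3, 2, 1, 4, 3, 2, 3, 2, 4, 5, 3, 5, 4, 2, 3, 2, 3, 4, 1, 2, 3, 1, 2, 3, 4, 3, 1, 2, 3, 1, 2, 1, 0, 4, 3, 2, 1, 5, 4, 3, 2, 1, 3, 2, 5, 2, 3, 2, 3, 1, 2, 3, 4, 5, 2, 3, 4, 1, 2], [1, 2, 3, 4, 3, 2, 1, 3, 2, 3, 4, 3, 2, 1, 3, 2, 4, 3, 5, 0, 5, 4, 3, 1, 2, 3, 4, 0, 1, 2, 3, 2, 3, 4, 3, 0, 1, 2, 1, 2, 1, 0, 4, 3, 2, 1, 5, 4, 3, 2, 1, 3, 2, 5, 2, 3, 2, 3, 1, 2, 3, 4, 5, 2, 3, 4, 1, 2], [1, 2, 1, 3, 2, 1, 0, 3, 4, 3, 2, 3, 2, 1,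 4, 3, 2, 1, 3, 2, 4, 5, 1, 2, 3, 4, 3, 2, 3, 0, 1, 2, 3, 4, 5, 2, 3, 4, 0, 4, 3, 2, 1, 5, 4, 3, 2, 1, 3, 2, 5, 2, 3, 2, 3, 1, 2, 3, 4, 5, 2, 3, 4, 1, 2], [4, 3, 2, 1, 3, 2, 3, 4, 3, 2, 1, 3, 2, 1, 3, 4, 3, 2, 1, 0, 5, 4, 5, 4, 2, 3, 1, 2, 3, 4, 5, 1, 2, 3, 4, 0, 1, 2, 3, 1, 2, 3, 4, 1, 2, 1, 0, 4, 3, 2, 1, 5, 4, 3, 2, 1, 3, 2, 5, 2, 3, 2, 3, 1, 2, 3, 4, 5, 2, 3, 4, 1, 2], [4, 3, 2, 1, 3, 2, 3, 4, 3, 2, 1, 3, 2, 1, 3, 4, 3, 2, 1, 0, 5, 4, 5, 4, 2, 3, 1, 2, 3, 4, 5, 1, 2, 3, 4, 0, 1, 2, 3, 1, 2, 3, 4, 0, 4, 3, 2, 1, 3, 2, 3, 5, 4, 3, 2, 3, 4, 5, 4, 5, 4, 2, 3, 2, 3, 4, 3, 2, 3, 1, 2, 3, 4, 0, 1], [1, 0, 4, 3, 2,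 1, 3, 2, 3, 5, 4, 3, 2, 3, 4, 5, 4, 5, 4, 2, 3, 2, 3, 4, 3, 2, 3, 1, 2, 3, 4, 0, 3, 2, 1, 3, 2, 4, 3, 2, 1, 0, 3, 2, 3, 4, 3, 5, 4, 2, 3, 4, 5, 2, 3, 4, 1, 2, 3, 2, 3, 4, 3, 1, 2, 1], [1, 2, 3, 4, 3, 2, 1, 3, 2, 3, 4, 3, 2, 1, 3, 2, 4, 3, 5, 0, 5, 4, 3, 1, 2, 3, 4, 0, 1, 2, 3, 2, 3, 4, 3, 0, 1, 2, 3, 2, 1, 3, 2, 4, 3, 2, 1, 0, 3, 2, 3, 4, 3, 5, 4, 2, 3, 4, 5, 2, 3, 4, 1, 2, 3, 2, 3, 4, 3, 1, 2, 1], [2, 1, 4, 3, 2, 1, 3, 2, 1, 0, 3, 4, 3, 2, 1, 3, 2, 1, 0, 4, 5, 1, 2, 3, 4, 3, 2, 3, 1, 2, 3, 4, 5, 1, 2, 3, 4, 3, 2, 3, 2, 1, 3, 2, 4, 3, 2, 1, 0, 3, 2, 3, 4, 3, 5, 4, 2, 3, 4, 5, 2, 3, 4, 1, 2, 3, 2, 3, 4, 3, 1, 2,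 1], [1, 2, 1, 3, 2, 1, 0, 3, 4, 3, 2, 3, 2, 1, 4, 3, 2, 1, 3, 2, 4, 5, 1, 2, 3, 4, 3, 2, 3, 0, 1, 2, 3, 4, 5, 2, 3, 4, 1, 2, 1, 3, 2, 1, 3, 2, 4, 3, 2, 1, 0, 3, 2, 3, 4, 3, 5, 4, 2, 3, 4, 5, 2, 3, 4, 1, 2, 3, 2, 3, 4, 3, 1, 2, 1], [1, 3, 2, 1, 0, 3, 4, 3, 2, 1, 3, 2, 3, 2, 1, 4, 3, 2, 1, 3, 2, 1, 3, 0, 3, 1, 2, 3, 1, 2, 3, 4, 3, 2, 3, 0, 1, 2, 3, 4, 3, 0, 1, 2, 3, 2, 3, 2, 1, 3, 2, 4, 3, 2, 1, 0, 3, 2, 3, 4, 3, 5, 4, 2, 3, 4, 5, 2, 3, 4, 1, 2, 3, 2, 3, 4, 3, 1, 2, 1], [1, 2, 1, 4, 3, 2, 5, 4, 3, 2, 1, 0, 3, 2, 3, 4, 3, 2, 1, 3, 2, 1, 3, 0, 2, 3, 1, 2, 3, 4, 0, 1, 2, 3, 2, 3, 4, 1, 2, 3, 2, 3, 1, 2, 3, 4, 3, 1,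 3, 2, 1, 3, 2, 4, 3, 2, 1, 0, 3, 2, 3, 4, 3, 5, 4, 2, 3, 4, 5, 2, 3, 4, 1, 2, 3, 2, 3, 4, 3, 1, 2, 1], [4, 3, 2, 1, 3, 2, 4, 3, 2, 1, 0, 5, 4, 3, 2, 1, 3, 2, 4, 3, 2, 3, 4, 3, 5, 1, 2, 3, 4, 1, 2, 3, 1, 2, 3, 4, 3, 2, 3, 1, 2, 3, 4, 2, 3, 1, 2, 3, 2, 1, 3, 2, 4, 3, 2, 1, 0, 3, 2, 3, 4, 3, 5, 4, 2, 3, 4, 5, 2, 3, 4, 1, 2, 3, 2, 3, 4, 3, 1, 2, 1], [4, 3, 2, 1, 3, 2, 3, 4, 3, 2, 1, 3, 2, 1, 3, 4, 3, 2, 1, 0, 5, 4, 5, 4, 2, 3, 1, 2, 3, 4, 5, 1, 2, 3, 4, 0, 1, 2, 3, 1, 2, 3, 4, 2, 1, 0, 3, 4, 3, 2, 1, 3, 2, 1, 4, 3, 2, 3, 2, 4, 5, 3, 5, 4, 2, 3, 2, 3, 4, 1, 2, 3, 1, 2, 3, 4, 3, 1, 2, 3, 1], [1, 3, 2, 1, 4, 3, 2, 3,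 2, 3, 5, 2, 3, 4, 3, 0, 1, 2, 1, 2, 3, 4, 3, 2, 1, 3, 2, 3, 4, 3, 2, 1, 3, 2, 4, 3, 5, 0, 5, 4, 3, 1, 2, 3, 4, 0, 1, 2, 3, 2, 3, 4, 3, 0, 1, 2, 1], [2, 1, 0, 4, 3, 2, 1, 5, 4, 3, 2, 1, 3, 2, 5, 2, 3, 2, 3, 1, 2, 3, 4, 5, 2, 3, 4, 1, 2, 1, 2, 3, 4, 3, 2, 1, 3, 2, 3, 4, 3, 2, 1, 3, 2, 4, 3, 5, 0, 5, 4, 3, 1, 2, 3, 4, 0, 1, 2, 3, 2, 3, 4, 3, 0, 1, 2, 1], [1, 2, 3, 4, 3, 2, 1, 3, 2, 3, 4, 3, 2, 1, 3, 2, 4, 3, 5, 0, 5, 4, 3, 1, 2, 3, 4, 0, 1, 2, 3, 2, 3, 4, 3, 0, 1, 3, 4, 3, 2, 1, 3, 2, 3, 4, 3, 2, 1, 3, 2, 4, 3, 5, 0, 5, 4, 3, 1, 2, 3, 4, 0, 1, 2, 3, 2, 3, 4, 3, 0, 1, 2, 1], [2, 1, 4, 3, 2, 1, 3, 2, 1, 0, 3, 4, 3,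 2, 1, 3, 2, 1, 0, 4, 5, 1, 2, 3, 4, 3, 2, 3, 1, 2, 3, 4, 5, 3, 2, 3, 4, 3, 2, 1, 3, 2, 4, 3, 5, 0, 5, 4, 3, 1, 2, 3, 4, 0, 1, 2, 3, 2, 3, 4, 3, 0, 1, 2, 1], [1, 2, 1, 3, 2, 1, 0, 3, 4, 3, 2, 3, 2, 1, 4, 3, 2, 1, 3, 2, 4, 5, 1, 2, 3, 4, 3, 2, 3, 0, 1, 2, 3, 4, 5, 2, 3, 4, 1, 2, 1, 2, 3, 4, 3, 2, 1, 3, 2, 3, 4, 3, 2, 1, 3, 2, 4, 3, 5, 0, 5, 4, 3, 1, 2, 3, 4, 0, 1, 2, 3, 2, 3, 4, 3, 0, 1, 2, 1], [1, 3, 2, 1, 0, 3, 4, 3, 2, 1, 3, 2, 3, 2, 1, 4, 3, 2, 1, 3, 2, 1, 3, 0, 3, 1, 2, 3, 1, 2, 3, 4, 3, 2, 3, 0, 1, 2, 3, 4, 3, 0, 1, 2, 4, 3, 2, 1, 3, 2, 3, 4, 3, 2, 1, 3, 2, 4, 3, 5, 0, 5, 4, 3, 1, 2, 3, 4, 0, 1, 2, 3, 2, 3,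 4, 3, 0, 1, 2, 1], [1, 2, 1, 4, 3, 2, 5, 4, 3, 2, 1, 0, 3, 2, 3, 4, 3, 2, 1, 3, 2, 1, 3, 0, 2, 3, 1, 2, 3, 4, 0, 1, 2, 3, 2, 3, 4, 1, 2, 3, 2, 3, 1, 2, 3, 4, 3, 1, 2, 3, 4, 3, 2, 1, 3, 2, 3, 4, 3, 2, 1, 3, 2, 4, 3, 5, 0, 5, 4, 3, 1, 2, 3, 4, 0, 1, 2, 3, 2, 3, 4, 3, 0, 1, 2, 1], [4, 3, 2, 1, 3, 2, 4, 3, 2, 1, 0, 5, 4, 3, 2, 1, 3, 2, 4, 3, 2, 3, 4, 3, 5, 1, 2, 3, 4, 1, 2, 3, 1, 2, 3, 4, 3, 2, 3, 1, 2, 3, 4, 2, 3, 1, 3, 4, 3, 2, 1, 3, 2, 3, 4, 3, 2, 1, 3, 2, 4, 3, 5, 0, 5, 4, 3, 1, 2, 3, 4, 0, 1, 2, 3, 2, 3, 4, 3, 0, 1, 2, 1], [2, 1, 0, 4, 3, 2, 1, 5, 4, 3, 2, 1, 3, 2, 5, 2, 3, 2, 3, 1, 2, 3, 4, 5, 1, 3, 2, 1, 0,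 3, 4, 3, 2, 1, 3, 2, 1, 0, 4, 5, 1, 2, 3, 4, 3, 2, 3, 1, 2, 3, 4, 5, 1, 2, 3, 4, 3, 2, 1], [1, 3, 2, 1, 3, 2, 4, 3, 2, 1, 0, 3, 2, 3, 4, 3, 5, 4, 2, 3, 4, 5, 2, 3, 4, 1, 2, 3, 2, 3, 4, 3, 1, 2, 1, 2, 1, 4, 3, 2, 1, 3, 2, 1, 0, 3, 4, 3, 2, 1, 3, 2, 1, 0, 4, 5, 1, 2, 3, 4, 3, 2, 3, 1, 2, 3, 4, 5, 1, 2, 3, 4, 3, 2, 1], [1, 0, 2, 1, 4, 3, 2, 1, 3, 5, 4, 3, 2, 3, 2, 1, 4, 3, 2, 3, 2, 4, 5, 4, 3, 1, 2, 3, 4, 5, 0, 1, 2, 3, 4, 2, 3, 1, 2, 3, 4, 0, 1, 2, 3, 2, 1, 2, 1, 4, 3, 2, 1, 3, 2, 1, 0, 3, 4, 3, 2, 1, 3, 2, 1, 0, 4, 5, 1, 2, 3, 4, 3, 2, 3, 1, 2, 3, 4, 5, 1, 2, 3, 4, 3, 2, 1], [1, 3, 2, 1, 3, 2, 4, 3, 2, 1, 0, 3,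 2, 3, 4, 3, 5, 4, 2, 3, 4, 5, 2, 3, 4, 1, 2, 3, 2, 3, 4, 2, 1, 0, 3, 4, 3, 2, 3, 2, 1, 4, 3, 2, 1, 3, 2, 4, 5, 1, 2, 3, 4, 3, 2, 3, 0, 1, 2, 3, 4, 5, 2, 3, 4, 1, 2], [1, 0, 2, 1, 4, 3, 2, 1, 3, 5, 4, 3, 2, 3, 2, 1, 4, 3, 2, 3, 2, 4, 5, 4, 3, 1, 2, 3, 4, 5, 0, 1, 2, 3, 4, 2, 3, 1, 2, 3, 4, 0, 1, 2, 3, 1, 3, 2, 1, 0, 3, 4, 3, 2, 3, 2, 1, 4, 3, 2, 1, 3, 2, 4, 5, 1, 2, 3, 4, 3, 2, 3, 0, 1, 2, 3, 4, 5, 2, 3, 4, 1, 2], [1, 2, 1, 4, 3, 2, 5, 4, 3, 2, 1, 0, 3, 2, 3, 4, 3, 2, 1, 3, 2, 1, 3, 0, 2, 3, 1, 2, 3, 4, 0, 1, 2, 3, 2, 3, 4, 1, 2, 3, 2, 3, 1, 2, 3, 4, 3, 1, 3, 2, 1, 0, 3, 4, 3, 2, 1, 3, 2, 3, 2, 1, 4, 3, 2, 1, 3,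 2, 1, 3, 0, 3, 1, 2, 3, 1, 2, 3, 4, 3, 2, 3, 0, 1, 2, 3, 4, 3, 0, 1, 2, 3, 2, 1], [1, 3, 2, 1, 3, 2, 4, 3, 2, 1, 0, 3, 2, 3, 4, 3, 5, 4, 2, 3, 4, 5, 2, 3, 4, 1, 2, 3, 2, 3, 4, 3, 1, 2, 0, 2, 1, 4, 3, 2, 1, 3, 5, 4, 3, 2, 3, 2, 1, 4, 3, 2, 3, 2, 4, 5, 4, 3, 1, 2, 3, 4, 5, 0, 1, 2, 3, 4, 2, 3, 1, 2, 3, 4, 0, 1, 2, 3, 2, 1], [1, 0, 2, 1, 4, 3, 2, 1, 3, 5, 4, 3, 2, 3, 2, 1, 4, 3, 2, 3, 2, 4, 5, 4, 3, 1, 2, 3, 4, 5, 0, 1, 2, 3, 4, 2, 3, 1, 2, 3, 4, 0, 1, 2, 3, 2, 0, 2, 1, 4, 3, 2, 1, 3, 5, 4, 3, 2, 3, 2, 1, 4, 3, 2, 3, 2, 4, 5, 4, 3, 1, 2, 3, 4, 5, 0, 1, 2, 3, 4, 2, 3, 1, 2, 3, 4, 0, 1, 2, 3, 2, 1], [1, 3, 2, 1, 3,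 2, 4, 3, 2, 1, 0, 3, 2, 3, 4, 3, 5, 4, 2, 3, 4, 5, 2, 3, 4, 1, 2, 3, 2, 3, 4, 3, 4, 3, 2, 5, 4, 3, 2, 1, 0, 3, 2, 3, 4, 3, 2, 1, 3, 2, 1, 3, 0, 2, 3, 1, 2, 3, 4, 0, 1, 2, 3, 2, 3, 4, 1, 2, 3, 2, 3, 1, 2, 3, 4, 3], [1, 0, 2, 1, 4, 3, 2, 1, 3, 5, 4, 3, 2, 3, 2, 1, 4, 3, 2, 3, 2, 4, 5, 4, 3, 1, 2, 3, 4, 5, 0, 1, 2, 3, 4, 2, 3, 1, 2, 3, 4, 0, 1, 2, 3, 1, 4, 3, 2, 5, 4, 3, 2, 1, 0, 3, 2, 3, 4, 3, 2, 1, 3, 2, 1, 3, 0, 2, 3, 1, 2, 3, 4, 0, 1, 2, 3, 2, 3, 4, 1, 2, 3, 2, 3, 1, 2, 3, 4, 3], [1, 2, 1, 4, 3, 2, 5, 4, 3, 2, 1, 0, 3, 2, 3, 4, 3, 2, 1, 3, 2, 1, 3, 0, 2, 3, 1, 2, 3, 4, 0, 1, 2, 3, 2, 3, 4, 1, 2, 3, 2, 3, 1, 2,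 3, 4, 3, 1, 2, 3, 4, 3, 2, 1, 3, 2, 3, 4, 3, 2, 1, 3, 2, 4, 3, 5, 0, 5, 4, 3, 1, 2, 3, 4, 0, 1, 2, 3, 2, 3, 4, 3, 0, 1, 2, 3, 2, 1, 4, 3, 2, 3, 2, 3, 5, 2, 3, 4, 3, 0, 1, 2], [4, 3, 2, 1, 3, 2, 4, 3, 2, 1, 0, 5, 4, 3, 2, 1, 3, 2, 4, 3, 2, 3, 4, 3, 5, 1, 2, 3, 4, 1, 2, 3, 1, 2, 3, 4, 3, 2, 3, 1, 2, 3, 4, 2, 3, 1, 3, 4, 3, 2, 1, 3, 2, 3, 4, 3, 2, 1, 3, 2, 4, 3, 5, 0, 5, 4, 3, 1, 2, 3, 4, 0, 1, 2, 3, 2, 3, 4, 3, 0, 1, 2, 3, 2, 1, 4, 3, 2, 3, 2, 3, 5, 2, 3, 4, 3, 0, 1, 2], [1, 3, 2, 1, 3, 2, 4, 3, 2, 1, 0, 3, 2, 3, 4, 3, 5, 4, 2, 3, 4, 5, 2, 3, 4, 1, 2, 3, 2, 3, 4, 3, 1, 2, 1, 2, 1, 4, 3, 2, 1, 3, 2, 1, 0, 3, 4, 3,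 2, 1, 3, 2, 1, 0, 4, 5, 1, 2, 3, 4, 3, 2, 3, 1, 2, 3, 4, 5, 1, 2, 3, 4, 3, 2, 3, 2, 1, 4, 3, 2, 3, 2, 3, 5, 2, 3, 4, 3, 0, 1, 2], [1, 0, 2, 1, 4, 3, 2, 1, 3, 5, 4, 3, 2, 3, 2, 1, 4, 3, 2, 3, 2, 4, 5, 4, 3, 1, 2, 3, 4, 5, 0, 1, 2, 3, 4, 2, 3, 1, 2, 3, 4, 0, 1, 2, 3, 2, 1, 2, 1, 4, 3, 2, 1, 3, 2, 1, 0, 3, 4, 3, 2, 1, 3, 2, 1, 0, 4, 5, 1, 2, 3, 4, 3, 2, 3, 1, 2, 3, 4, 5, 1, 2, 3, 4, 3, 2, 3, 2, 1, 4, 3, 2, 3, 2, 3, 5, 2, 3, 4, 3, 0, 1, 2], [1, 3, 2, 1, 3, 2, 4, 3, 2, 1, 0, 3, 2, 3, 4, 3, 5, 4, 2, 3, 4, 5, 2, 3, 4, 1, 2, 3, 2, 3, 4, 2, 1, 0, 3, 4, 3, 2, 3, 2, 1, 4, 3, 2, 1, 3, 2, 4, 5, 1, 2, 3, 4, 3, 2, 3, 0, 1, 2,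 3, 4, 5, 2, 3, 4, 1, 2, 1, 3, 2, 1, 4, 3, 2, 3, 2, 3, 5, 2, 3, 4, 3, 0, 1, 2], [1, 0, 2, 1, 4, 3, 2, 1, 3, 5, 4, 3, 2, 3, 2, 1, 4, 3, 2, 3, 2, 4, 5, 4, 3, 1, 2, 3, 4, 5, 0, 1, 2, 3, 4, 2, 3, 1, 2, 3, 4, 0, 1, 2, 3, 1, 3, 2, 1, 0, 3, 4, 3, 2, 3, 2, 1, 4, 3, 2, 1, 3, 2, 4, 5, 1, 2, 3, 4, 3, 2, 3, 0, 1, 2, 3, 4, 5, 2, 3, 4, 1, 2, 1, 3, 2, 1, 4, 3, 2, 3, 2, 3, 5, 2, 3, 4, 3, 0, 1, 2], [1, 3, 2, 1, 3, 2, 4, 3, 2, 1, 0, 3, 2, 3, 4, 3, 5, 4, 2, 3, 4, 5, 2, 3, 4, 1, 2, 3, 2, 3, 4, 3, 1, 2, 0, 2, 1, 4, 3, 2, 1, 3, 5, 4, 3, 2, 3, 2, 1, 4, 3, 2, 3, 2, 4, 5, 4, 3, 1, 2, 3, 4, 5, 0, 1, 2, 3, 4, 2, 3, 1, 2, 3, 4, 0, 1, 2, 3,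 2, 3, 2, 1, 4, 3, 2, 3, 2, 3, 5, 2, 3, 4, 3, 0, 1, 2], [1, 0, 2, 1, 4, 3, 2, 1, 3, 5, 4, 3, 2, 3, 2, 1, 4, 3, 2, 3, 2, 4, 5, 4, 3, 1, 2, 3, 4, 5, 0, 1, 2, 3, 4, 2, 3, 1, 2, 3, 4, 0, 1, 2, 3, 2, 0, 2, 1, 4, 3, 2, 1, 3, 5, 4, 3, 2, 3, 2, 1, 4, 3, 2, 3, 2, 4, 5, 4, 3, 1, 2, 3, 4, 5, 0, 1, 2, 3, 4, 2, 3, 1, 2, 3, 4, 0, 1, 2, 3, 2, 3, 2, 1, 4, 3, 2, 3, 2, 3, 5, 2, 3, 4, 3, 0, 1, 2], [1, 3, 2, 1, 3, 2, 4, 3, 2, 1, 0, 3, 2, 3, 4, 3, 5, 4, 2, 3, 4, 5, 2, 3, 4, 1, 2, 3, 2, 3, 4, 2, 1, 0, 3, 4, 3, 2, 3, 2, 1, 4, 3, 2, 1, 3, 2, 4, 5, 1, 2, 3, 4, 3, 2, 3, 0, 1, 2, 3, 4, 5, 2, 3, 4, 0, 4, 3, 2, 1, 5, 4, 3, 2, 1, 3, 2, 5, 2,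 3, 2, 3, 1, 2, 3, 4, 5, 2, 3, 4, 1, 2], [1, 0, 2, 1, 4, 3, 2, 1, 3, 5, 4, 3, 2, 3, 2, 1, 4, 3, 2, 3, 2, 4, 5, 4, 3, 1, 2, 3, 4, 5, 0, 1, 2, 3, 4, 2, 3, 1, 2, 3, 4, 0, 1, 2, 3, 1, 3, 2, 1, 0, 3, 4, 3, 2, 3, 2, 1, 4, 3, 2, 1, 3, 2, 4, 5, 1, 2, 3, 4, 3, 2, 3, 0, 1, 2, 3, 4, 5, 2, 3, 4, 0, 4, 3, 2, 1, 5, 4, 3, 2, 1, 3, 2, 5, 2, 3, 2, 3, 1, 2, 3, 4, 5, 2, 3, 4, 1, 2]]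

end CfsgLib.Spor.ON.Sub
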