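/-
Three points determine an element of the presented O'Nan group.
-/
import Cfsg.Agent.Lib.Spor.ON.Order
import Cfsg.Agent.Lib.Spor.ON.Sub.Data
import Cfsg.Agent.Lib.Spor.ON.Trans

set_option maxRecDepth 100000

namespace CfsgLib.Spor.ON.Sub

open CfsgLib.Spor.TC MulAction

local notation "G₀" => Pres ActO.act.k relsG

attribute [local instance] actionO

/-- The value of a word in the group. -/
noncomputable def val (w : List ℕ) : G₀ := ev (ActO.act.letters relsG) w

theorem val_smul : ∀ {w : List ℕ}, (∀ x ∈ w, x < ActO.act.K) → ∀ c : Fin ActO.act.n,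
    ((val w • c : Fin ActO.act.n) : ℕ) = ActO.act.wact w c
  | [], _, c => by simp [val, ev, Act.wact]
  | a :: w, h, c => by
    rw [val, ev_cons, mul_smul, ← val]
    refine (ActO.valid.action_apply (h a (List.mem_cons_self ..)) _).trans ?_
    rw [val_smul (fun x hx => h x (List.mem_cons_of_mem _ hx)) c]
    rfl

theorem letters_small : ∀ x < 7, x < ActO.act.K := by decide +kernel

theorem baseWords_ok : ∀ w ∈ baseWords, (w.all fun x => Nat.blt x 6) = true ∧ ActO.act.wact w 1 = 1 := by
  decide +kernel

theorem baseWords_nodup : (baseWords.map fun w => ActO.act.wact w basePt).Nodup := by decide +kernel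

theorem baseWords_length : baseWords.length = 64 := by decide +kernel

theorem stab_zero : ∀ a : Fin ActO.act.n, (a : ℕ) = 0 → stabilizer G₀ a = subH := by
  intro a ha
  obtain ⟨S, hS, -, -⟩ := exists_suborbits (g := ActO.act.letters relsG)
    (fun x hx c => ActO.valid.action_apply hx c) ActO.top ActO.top_level rfl rfl [0, 1, 2, 3, 4, 5] subH rfl
    ActO.parts ActO.parts_ok (subH_eq ▸ index_le)
  rw [show a = S.a from Fin.ext (ha.trans hS.symm), S.stab]

theorem lt_n : 0 < ActO.act.n ∧ 1 < ActO.act.n ∧ basePt < ActO.act.n := by decide +kernel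

theorem faith {x : G₀} (h0 : ((x • (⟨0, lt_n.1⟩ : Fin ActO.act.n) : Fin ActO.act.n) : ℕ) = 0)
    (h1 : ((x • (⟨1, lt_n.2.1⟩ : Fin ActO.act.n) : Fin ActO.act.n) : ℕ) = 1)
    (h2 : ((x • (⟨basePt, lt_n.2.2⟩ : Fin ActO.act.n) : Fin ActO.act.n) : ℕ) = basePt) : x = 1 := by
  have hx : x ∈ subH := by rw [← stab_zero ⟨0, lt_n.1⟩ rfl]; exact Fin.ext h0
  obtain ⟨b, hb, -, hsz⟩ := orbit_eq_level ActO.part1 (g := ActO.act.letters relsG)
    (fun x hx c => ActO.valid.action_apply hx c) ActO.part1_orbit
  have hb1 : b = ⟨1, lt_n.2.1⟩ := Fin.ext hb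
  subst hb1
  have hsz' : (orbit subH (⟨1, lt_n.2.1⟩ : Fin ActO.act.n)).ncard = 58653 := hsz
  haveI : Finite subH := Nat.finite_of_card_ne_zero (ne_of_eq_of_ne card_subH (by decide))
  let M := stabilizer subH (⟨1, lt_n.2.1⟩ : Fin ActO.act.n)
  have hM : Nat.card M = 64 := by
    have h := M.index_mul_card
    rw [index_stabilizer, hsz', card_subH] at h
    omega
  have hmem : ∀ i : Fin baseWords.length, val (baseWords.get i) ∈ subH := fun i =>
    ev_mem fun y hy => Subgroup.subset_closure ⟨y, by
      have h6 := Nat.le_of_ble_eq_true (List.all_eq_true.1 (baseWords_ok _ (baseWords.get_mem i)).1 y hy)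
      show y ∈ [0, 1, 2, 3, 4, 5]
      simp only [List.mem_cons, List.not_mem_nil, or_false]
      omega, rfl⟩
  have hlt : ∀ i : Fin baseWords.length, ∀ y ∈ baseWords.get i, y < ActO.act.K := fun i y hy =>
    letters_small y (lt_trans (Nat.le_of_ble_eq_true (List.all_eq_true.1 (baseWords_ok _ (baseWords.get_mem i)).1 y hy))
      (by decide))
  let f : Fin baseWords.length → M := fun i => ⟨⟨_, hmem i⟩, Fin.ext
    ((val_smul (hlt i) _).trans (baseWords_ok _ (baseWords.get_mem i)).2)⟩
  let g : M → ℕ := fun m => (((m : subH) : G₀) • (⟨basePt, lt_n.2.2⟩ : Fin ActO.act.n) : Fin ActO.act.n)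
  have hgf : Function.Injective (g ∘ f) := by
    intro i j h
    have e : ∀ i, (g ∘ f) i = (baseWords.map fun w => ActO.act.wact w basePt)[(i : ℕ)]'(by simp) := fun i => by
      rw [List.getElem_map]
      exact val_smul (hlt i) _
    rw [e, e] at h
    exact Fin.ext ((List.Nodup.getElem_inj_iff baseWords_nodup).1 h)
  have hf : Function.Bijective f := hgf.of_comp.bijective_of_nat_card_le (by
    rw [hM, Nat.card_fin, baseWords_length])
  have hg : Function.Injective g := fun a b e => by
    obtain ⟨i, rfl⟩ := hf.2 a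
    obtain ⟨j, rfl⟩ := hf.2 b
    rw [hgf e]
  have hxM : (⟨x, hx⟩ : subH) ∈ M := Fin.ext h1
  have h := @hg ⟨⟨x, hx⟩, hxM⟩ 1 (h2.trans (by show basePt = _; simp [g]))
  exact congrArg (fun m : M => ((m : subH) : G₀)) h

/-- A word fixing the three points gives the identity. -/
theorem ev_eq_one {w : List ℕ} (hw : (w.all fun x => Nat.blt x 7) = true)
    (h : [0, 1, basePt].map (ActO.act.wact w) = [0, 1, basePt]) : val w = 1 := by
  have hK : ∀ x ∈ w, x < ActO.act.K := fun x hx =>
    letters_small x (Nat.le_of_ble_eq_true (List.all_eq_true.1 hw x hx))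
  simp only [List.map_cons, List.map_nil, List.cons.injEq] at h
  exact faith ((val_smul hK _).trans h.1) ((val_smul hK _).trans h.2.1) ((val_smul hK _).trans h.2.2.1)

theorem val_ne_one {w : List ℕ} (hw : (w.all fun x => Nat.blt x 7) = true)
    (h : [0, 1, basePt].map (ActO.act.wact w) ≠ [0, 1, basePt]) : val w ≠ 1 := by
  intro e
  apply h
  have hK : ∀ x ∈ w, x < ActO.act.K := fun x hx =>
    letters_small x (Nat.le_of_ble_eq_true (List.all_eq_true.1 hw x hx))
  have key : ∀ c : Fin ActO.act.n, ActO.act.wact w c = c := fun c => by rw [← val_smul hK c, e, one_smul]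
  simp only [List.map_cons, List.map_nil, key ⟨0, lt_n.1⟩, key ⟨1, lt_n.2.1⟩, key ⟨basePt, lt_n.2.2⟩]

/-- Four involutions given by words, satisfying relators checked at the three points. -/
theorem sat_words (ws : List (List ℕ)) (rels : List PowRel)
    (hl : (ws.all fun w => w.all fun x => Nat.blt x 7) = true)
    (hsq : ∀ w ∈ ws, [0, 1, basePt].map (ActO.act.wact (w ++ w)) = [0, 1, basePt])
    (hrel : ∀ r ∈ rels, [0, 1, basePt].map (ActO.act.wact (powWord (r.1.flatMap fun i => ws.getD i []) r.2)) =
      [0, 1, basePt]) :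
    Sat ws.length rels fun i => val (ws.getD i []) := by
  have hall : ∀ i, ((ws.getD i []).all fun x => Nat.blt x 7) = true := fun i => by
    by_cases hi : i < ws.length
    · rw [List.getD_eq_getElem _ _ hi]
      exact List.all_eq_true.1 hl _ (List.getElem_mem hi)
    · rw [List.getD_eq_default _ _ (Nat.le_of_not_lt hi)]; rfl
  refine ⟨fun i => ?_, fun i hi => by rw [List.getD_eq_default _ _ hi]; rfl, fun r hr => ?_⟩
  · by_cases hi : i < ws.length
    · show val (ws.getD i []) * val (ws.getD i []) = 1
      rw [val, ← ev_append]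
      exact ev_eq_one (by rw [List.all_append, hall, Bool.and_self]) (hsq _ (by
        rw [List.getD_eq_getElem _ _ hi]; exact List.getElem_mem hi))
    · rw [List.getD_eq_default _ _ (Nat.le_of_not_lt hi)]; exact one_mul 1
  · show ev (fun i => ev (ActO.act.letters relsG) (ws.getD i [])) r.1 ^ r.2 = 1
    rw [← ev_flatMap, ← ev_powWord]
    refine ev_eq_one (List.all_eq_true.2 fun x hx => ?_) (hrel r hr)
    have key : ∀ (w : List ℕ) (m : ℕ), x ∈ powWord w m → x ∈ w := by
      intro w m
      induction m with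
      | zero => intro h; exact absurd h (List.not_mem_nil)
      | succ m ih => intro h; rcases List.mem_append.1 h with h | h <;> [exact h; exact ih h]
    obtain ⟨i, -, hi⟩ := List.mem_flatMap.1 (key _ _ hx)
    exact List.all_eq_true.1 (hall i) x hi

/-- A nontrivial image of a simple group in the presented group. -/
theorem range_simple {P : Type*} [Group P] [IsSimpleGroup P] (φ : P →* G₀) {x : P} (hx : φ x ≠ 1) :
    IsSimpleGroup φ.range ∧ Nat.card φ.range = Nat.card P := by
  have hinj : Function.Injective φ := by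
    rw [← MonoidHom.ker_eq_bot_iff]
    exact (IsSimpleGroup.eq_bot_or_eq_top_of_normal φ.ker inferInstance).resolve_right fun h =>
      hx (MonoidHom.mem_ker.1 (h ▸ Subgroup.mem_top x))
  exact ⟨(MonoidHom.ofInjective hinj).symm.isSimpleGroup, (Nat.card_congr (MonoidHom.ofInjective hinj).toEquiv).symm⟩

end CfsgLib.Spor.ON.Sub
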