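/-
Relators of the two small simple groups, checked at three points.
-/
import Cfsg.Agent.Lib.Spor.ON.Sub.Faith

set_option maxRecDepth 100000

namespace CfsgLib.Spor.ON.Sub

open CfsgLib.Spor.TC

theorem wordsJ_ok : (wordsJ.all fun w => w.all fun x => Nat.blt x 7) = true := by decide +kernel

theorem wordsJ_sq : ∀ w ∈ wordsJ, [0, 1, basePt].map (ActO.act.wact (w ++ w)) = [0, 1, basePt] := by
  decide +kernel

theorem wordsJ_rel : ∀ r ∈ relsJ,
    [0, 1, basePt].map (ActO.act.wact (powWord (r.1.flatMap fun i => wordsJ.getD i []) r.2)) = [0, 1, basePt] := by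
  decide +kernel

theorem wordsJ_moves : [0, 1, basePt].map (ActO.act.wact (wordsJ.getD 0 [])) ≠ [0, 1, basePt] := by decide +kernel

theorem wordsM_ok : (wordsM.all fun w => w.all fun x => Nat.blt x 7) = true := by decide +kernel

theorem wordsM_sq : ∀ w ∈ wordsM, [0, 1, basePt].map (ActO.act.wact (w ++ w)) = [0, 1, basePt] := by
  decide +kernel

theorem wordsM_rel : ∀ r ∈ relsM,
    [0, 1, basePt].map (ActO.act.wact (powWord (r.1.flatMap fun i => wordsM.getD i []) r.2)) = [0, 1, basePt] := by
  decide +kernel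

theorem wordsM_moves : [0, 1, basePt].map (ActO.act.wact (wordsM.getD 0 [])) ≠ [0, 1, basePt] := by decide +kernel

end CfsgLib.Spor.ON.Sub
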