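/-
Simple groups of orders 175560 and 7920 inside the presented O'Nan group.
-/
import Cfsg.Agent.Lib.Spor.ON.Sub.Checks
import Cfsg.Agent.Lib.Spor.ON.CJ.All
import Cfsg.Agent.Lib.Spor.ON.CJH.All
import Cfsg.Agent.Lib.Spor.ON.CM.All
import Cfsg.Agent.Lib.Spor.ON.CMH.All
import Cfsg.Agent.Lib.Char.J1.Structure
import Cfsg.Agent.Lib.Spor.SharplyTransitive

set_option maxRecDepth 100000

namespace CfsgLib.Spor.ON.Sub

open CfsgLib.Spor.TC MulAction

local notation "G₀" => Pres ActO.act.k relsG

/-! ### The smallest Janko group -/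

theorem card_le_J : Nat.card (Pres 4 relsJ) ≠ 0 ∧ Nat.card (Pres 4 relsJ) ≤ 175560 := by
  have h := CJ.cosetCert.card_le (rels' := relsJH) (l := 3) (by decide) (by decide +kernel) CJH.cosetCert.card_le_bot
  exact ⟨h.1, h.2.trans (by decide +kernel)⟩

open CfsgLib.Char.J1 in
/-- The code of a word in the generators of the matrix group. -/
def wcode (w : List ℕ) : ℕ := (w.map fun i => if i = 0 then xC else yC).foldr mulC oneC

open CfsgLib.Char.J1 in
/-- The value of a word in the generators of the matrix group. -/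
def wval (w : List ℕ) : ↥Cfsg.Spor.J1 := ev (fun i => if i = 0 then genX else genY) w

open CfsgLib.Char.J1 in
theorem code_wval : ∀ w : List ℕ, code (wval w) = wcode w
  | [] => code_one
  | a :: w => by
    rw [wval, ev_cons, code_mul, ← wval, code_wval w]
    by_cases h : a = 0 <;> simp [wcode, h, code_genX, code_genY]

theorem imgJ_sq : ∀ w ∈ imgJ, wcode (w ++ w) = CfsgLib.Char.J1.oneC := by decide +kernel

theorem imgJ_rel : ∀ r ∈ relsJ, wcode (powWord (r.1.flatMap fun i => imgJ.getD i []) r.2) =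
    CfsgLib.Char.J1.oneC := by decide +kernel

theorem backJ_eq : backJ.map (fun w => wcode (w.flatMap fun i => imgJ.getD i [])) =
    [CfsgLib.Char.J1.xC, CfsgLib.Char.J1.yC] := by decide +kernel

theorem sat_imgJ : Sat 4 relsJ fun i => wval (imgJ.getD i []) := by
  refine ⟨fun i => ?_, fun i hi => by
    rw [List.getD_eq_default _ _ (show imgJ.length ≤ i from hi)]; rfl, fun r hr => ?_⟩
  · by_cases hi : i < imgJ.length
    · rw [wval, ← ev_append]
      refine CfsgLib.Char.J1.code_injective (((code_wval _).trans ?_).trans CfsgLib.Char.J1.code_one.symm)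
      exact imgJ_sq _ (by rw [List.getD_eq_getElem _ _ hi]; exact List.getElem_mem hi)
    · rw [List.getD_eq_default _ _ (Nat.le_of_not_lt hi)]; exact one_mul 1
  · show ev (fun i => ev _ (imgJ.getD i [])) r.1 ^ r.2 = 1
    rw [← ev_flatMap, ← ev_powWord]
    exact CfsgLib.Char.J1.code_injective
      (((code_wval _).trans (imgJ_rel r hr)).trans CfsgLib.Char.J1.code_one.symm)

theorem toJ_surjective : Function.Surjective (presHom sat_imgJ) := by
  rw [← MonoidHom.range_eq_top, eq_top_iff]
  have hsub : Cfsg.Spor.J1 ≤ (presHom sat_imgJ).range.map Cfsg.Spor.J1.subtype := by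
    refine (Subgroup.closure_le _).2 ?_
    have key : ∀ (g : ↥Cfsg.Spor.J1) (w : List ℕ),
        CfsgLib.Char.J1.code g = wcode (w.flatMap fun i => imgJ.getD i []) →
        (g : GL (Fin 7) (ZMod 11)) ∈ (presHom sat_imgJ).range.map Cfsg.Spor.J1.subtype := fun g w h =>
      ⟨g, ⟨ev (presGen 4 relsJ) w, by
        refine CfsgLib.Char.J1.code_injective ?_
        rw [map_ev, h, ← code_wval, wval, ev_flatMap]
        exact congrArg _ (ev_congr fun x _ => presHom_gen sat_imgJ x)⟩, rfl⟩
    have hb := backJ_eq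
    rintro x (rfl | rfl)
    · exact key CfsgLib.Char.J1.genX (backJ.getD 0 []) (by
        have := congrArg (fun l : List ℕ => l.getD 0 0) hb
        exact (this.symm.trans (by rfl)).trans rfl)
    · exact key CfsgLib.Char.J1.genY (backJ.getD 1 []) (by
        have := congrArg (fun l : List ℕ => l.getD 1 0) hb
        exact (this.symm.trans (by rfl)).trans rfl)
  intro g _
  obtain ⟨y, hy, e⟩ := hsub g.2
  rwa [← Subtype.ext (show (y : GL (Fin 7) (ZMod 11)) = g from e)]

theorem isJ1_pres : IsSimpleGroup (Pres 4 relsJ) ∧ Nat.card (Pres 4 relsJ) = 175560 := by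
  haveI : Finite (Pres 4 relsJ) := Nat.finite_of_card_ne_zero card_le_J.1
  haveI := CfsgLib.Char.J1.simple_J1
  let e := MulEquiv.ofBijective (presHom sat_imgJ) (toJ_surjective.bijective_of_nat_card_le (by
    rw [CfsgLib.Char.J1.card_eq]; exact card_le_J.2))
  exact ⟨e.isSimpleGroup, (Nat.card_congr e.toEquiv).trans CfsgLib.Char.J1.card_eq⟩

theorem exists_J1 : ∃ K : Subgroup G₀, Cfsg.IsJ1 K := by
  have hs : Sat 4 relsJ fun i => val (wordsJ.getD i []) :=
    sat_words wordsJ relsJ wordsJ_ok wordsJ_sq wordsJ_rel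
  haveI := isJ1_pres.1
  have h := range_simple (presHom hs) (x := presGen 4 relsJ 0) (by
    rw [presHom_gen]
    exact val_ne_one (by decide +kernel) wordsJ_moves)
  exact ⟨(presHom hs).range, h.1, h.2.trans isJ1_pres.2⟩

/-! ### The smallest Mathieu group -/

theorem card_le_M : Nat.card (Pres 4 relsM) ≠ 0 ∧ Nat.card (Pres 4 relsM) ≤ 7920 := by
  have h := CM.cosetCert.card_le (rels' := relsMH) (l := 3) (by decide) (by decide +kernel) CMH.cosetCert.card_le_bot
  exact ⟨h.1, h.2.trans (by decide +kernel)⟩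

/-- The four involutions on eleven points. -/
def elev (i : ℕ) : Equiv.Perm (Fin 11) := ((imgM.getD i []).map fun p => Equiv.swap p.1 p.2).prod

theorem elev_sat : (∀ i : Fin 4, elev i * elev i = 1) ∧ ∀ r ∈ relsM, ev elev r.1 ^ r.2 = 1 := by decide +kernel

theorem sat_elev : Sat 4 relsM elev := by
  refine ⟨fun i => ?_, fun i hi => ?_, elev_sat.2⟩
  · by_cases hi : i < 4
    · exact elev_sat.1 ⟨i, hi⟩
    · rw [elev, List.getD_eq_default _ _ (show imgM.length ≤ i from Nat.le_of_not_lt hi)]; exact one_mul 1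
  · rw [elev, List.getD_eq_default _ _ (show imgM.length ≤ i from hi)]; rfl

theorem tree_spec : ∀ l : Fin 4, ∀ i : Fin 11, (l : ℕ) ≤ i →
    ∃ w ∈ treeM.getD l [], ev elev w ⟨l, by omega⟩ = i ∧
      ∀ j : Fin 4, (j : ℕ) < l → ev elev w ⟨j, by omega⟩ = ⟨j, by omega⟩ := by decide +kernel

/-- The group on eleven points. -/
def eleven : Subgroup (Equiv.Perm (Fin 11)) := (presHom sat_elev).range

theorem ev_mem_eleven (w : List ℕ) : ev elev w ∈ eleven :=
  ev_mem fun x _ => ⟨presGen 4 relsM x, presHom_gen sat_elev x⟩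

theorem reach : ∀ l, l ≤ 4 → ∀ y : Fin 4 ↪ Fin 11, ∃ g ∈ eleven,
    ∀ j : Fin 4, (j : ℕ) < l → g ⟨j, by omega⟩ = y j := by
  intro l
  induction l with
  | zero => intro _ y; exact ⟨1, eleven.one_mem, fun j hj => absurd hj (Nat.not_lt_zero _)⟩
  | succ l ih =>
    intro hl y
    obtain ⟨g, hg, he⟩ := ih (by omega) y
    have hle : l ≤ ((g⁻¹ (y ⟨l, hl⟩) : Fin 11) : ℕ) := by
      by_contra hlt
      rw [not_le] at hlt
      have h := he ⟨_, hlt.trans (by omega)⟩ hlt
      simp only [Fin.eta, Equiv.Perm.inv_def, Equiv.apply_symm_apply] at h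
      have := congrArg Fin.val (y.injective h)
      simp only [Equiv.Perm.inv_def] at this hlt
      omega
    obtain ⟨w, -, hw, hfix⟩ := tree_spec ⟨l, hl⟩ _ hle
    refine ⟨g * ev elev w, eleven.mul_mem hg (ev_mem_eleven w), fun j hj => ?_⟩
    rw [Equiv.Perm.mul_apply]
    rcases Nat.lt_succ_iff_lt_or_eq.1 hj with h | h
    · rw [hfix j h, he j h]
    · have : j = ⟨l, hl⟩ := Fin.ext h
      subst this
      rw [hw, Equiv.Perm.inv_def, Equiv.apply_symm_apply]

theorem four_transitive : IsMultiplyPretransitive eleven (Fin 11) 4 := by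
  let x₀ : Fin 4 ↪ Fin 11 := Fin.castLEEmb (by omega)
  refine (MulAction.isPretransitive_iff_base x₀).2 fun y => ?_
  obtain ⟨g, hg, he⟩ := reach 4 le_rfl y
  exact ⟨⟨g, hg⟩, Function.Embedding.ext fun j => he j j.2⟩

theorem isM11_eleven : Cfsg.IsM11 eleven := by
  haveI := four_transitive
  haveI : Finite (Pres 4 relsM) := Nat.finite_of_card_ne_zero card_le_M.1
  have hle : Nat.card eleven ≤ 7920 :=
    (Nat.card_le_card_of_surjective _ (presHom sat_elev).rangeRestrict_surjective).trans card_le_M.2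
  refine CfsgLib.Spor.isSimpleGroup_four (G := eleven) (by simp) fun x => ?_
  have hbij : Function.Bijective fun g : eleven => g • x :=
    Function.Surjective.bijective_of_nat_card_le (fun y => exists_smul_eq (M := eleven) x y) (by
      rw [Nat.card_eq_fintype_card (α := Fin 4 ↪ Fin 11), Fintype.card_embedding_eq, Fintype.card_fin,
        Fintype.card_fin]
      exact hle.trans (by decide +kernel))
  refine (Subgroup.eq_bot_iff_forall _).2 fun g hg => hbij.1 ?_
  show g • x = (1 : eleven) • x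
  exact Eq.trans hg (one_smul _ x).symm

theorem isM11_pres : IsSimpleGroup (Pres 4 relsM) ∧ Nat.card (Pres 4 relsM) = 7920 := by
  haveI : Finite (Pres 4 relsM) := Nat.finite_of_card_ne_zero card_le_M.1
  haveI : IsSimpleGroup ↥(presHom sat_elev).range := isM11_eleven.1
  let e := MulEquiv.ofBijective (presHom sat_elev).rangeRestrict
    ((presHom sat_elev).rangeRestrict_surjective.bijective_of_nat_card_le (by
      show _ ≤ Nat.card eleven
      rw [isM11_eleven.2]; exact card_le_M.2))
  exact ⟨e.isSimpleGroup, (Nat.card_congr e.toEquiv).trans isM11_eleven.2⟩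

theorem exists_M11 : ∃ K : Subgroup G₀, Cfsg.IsM11 K := by
  have hs : Sat 4 relsM fun i => val (wordsM.getD i []) :=
    sat_words wordsM relsM wordsM_ok wordsM_sq wordsM_rel
  haveI := isM11_pres.1
  have h := range_simple (presHom hs) (x := presGen 4 relsM 0) (by
    rw [presHom_gen]
    exact val_ne_one (by decide +kernel) wordsM_moves)
  exact ⟨(presHom hs).range, h.1, h.2.trans isM11_pres.2⟩

/-- The permutation group of degree 122760. -/
theorem realization :
    ∃ H : Subgroup (Equiv.Perm (Fin 122760)), Cfsg.IsON H ∧ IsPretransitive H (Fin 122760) ∧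
      Nat.card (stabilizer H (0 : Fin 122760)) = 3753792 ∧
      (∃ K : Subgroup H, Cfsg.IsJ1 K) ∧ (∃ K : Subgroup H, Cfsg.IsM11 K) := by
  letI := actionO
  haveI : IsSimpleGroup G₀ := simple
  obtain ⟨S, -, -⟩ := exists_suborbitsO
  let ρ : G₀ →* Equiv.Perm (Fin 122760) := ActO.valid.rho
  have hρ : ∀ (g : G₀) (c : Fin ActO.act.n), ρ g c = g • c := fun g c => rfl
  have hinj : Function.Injective ρ := by
    rw [← MonoidHom.ker_eq_bot_iff]
    refine (IsSimpleGroup.eq_bot_or_eq_top_of_normal ρ.ker inferInstance).resolve_right fun h => ?_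
    obtain ⟨g, hg⟩ := S.trans (if S.a = (⟨0, lt_n.1⟩ : Fin ActO.act.n) then ⟨1, lt_n.2.1⟩ else ⟨0, lt_n.1⟩)
    have h1 : ρ g = 1 := MonoidHom.mem_ker.1 (h ▸ Subgroup.mem_top g)
    rw [← hρ, h1] at hg
    change S.a = _ at hg
    split_ifs at hg with hc
    · rw [hc] at hg; exact absurd (congrArg Fin.val hg) (by simp)
    · exact hc hg
  let e : G₀ ≃* ρ.range := MonoidHom.ofInjective hinj
  have ec : Nat.card ρ.range = 460815505920 := (Nat.card_congr e.toEquiv).symm.trans card_eq
  have key : ∀ x y : Fin ActO.act.n, ∃ t, ρ t x = y := fun x y => by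
    obtain ⟨g, hg⟩ := S.trans x
    obtain ⟨k, hk⟩ := S.trans y
    refine ⟨k * g⁻¹, (hρ _ x).trans ?_⟩
    rw [mul_smul, ← hg, inv_smul_smul]
    exact hk
  haveI htr : IsPretransitive ρ.range (Fin 122760) := ⟨fun x y => by
    obtain ⟨t, ht⟩ := key x y
    exact ⟨e t, ht⟩⟩
  refine ⟨ρ.range, ⟨e.symm.isSimpleGroup, ec⟩, htr, ?_, ?_, ?_⟩
  · have h := (stabilizer ρ.range (0 : Fin 122760)).index_mul_card
    rw [index_stabilizer, orbit_eq_univ, Set.ncard_univ, Nat.card_fin, ec] at h
    omega
  · obtain ⟨K, hK⟩ := exists_J1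
    haveI := hK.1
    let f := K.equivMapOfInjective e.toMonoidHom e.injective
    exact ⟨_, f.symm.isSimpleGroup, (Nat.card_congr f.toEquiv).symm.trans hK.2⟩
  · obtain ⟨K, hK⟩ := exists_M11
    haveI := hK.1
    let f := K.equivMapOfInjective e.toMonoidHom e.injective
    exact ⟨_, f.symm.isSimpleGroup, (Nat.card_congr f.toEquiv).symm.trans hK.2⟩

end CfsgLib.Spor.ON.Sub
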